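import Cfsg.Agent.H991.TwFAb.EvenZ
import Cfsg.Agent.H42.Deg.F4Levi

/-!
# Abelian subgroups of `C(o)` in `²F₄(q)` (helper991, for S2501)

`card_HO_le` : `|A| ≤ q⁷ (q + 1)` for an abelian subgroup `A` of `HO = C(X_5)` with `A ∩ Z_4 Z_6 = 1` and order prime to
`q - 1`.
-/

set_option autoImplicit false
set_option linter.unusedSectionVars false

namespace Cfsg.Agent.H991.TwFAb

open Cfsg.Agent.SplitTwo Cfsg.Agent.SplitTwo.ZS Cfsg.Agent.TitsThree.RankTwoZ Cfsg.Agent.KFacts.TwF4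
open Cfsg.Agent.KFacts.TwF4.Arc Cfsg.Agent.KFacts.TwF4.Irr Cfsg.Agent.H392.TwFFour Cfsg.Agent.KFacts.TwF4.Inv
  Cfsg.Agent.KFacts.TwF4.TorEx Cfsg.Agent.KFacts.TwF4.Perf
open scoped Pointwise

universe u

variable {F : Type*} [Field F] {σ : F →+* F} {G : Type u} [Group G] (S : Full σ G) [Finite F] [Finite G]

theorem card_J37 : Nat.card (J S.XZ 3 7) = Nat.card F ^ 7 := by
  have h3 := card_odd S 1
  have h4 := card_even S 2
  have h5 := card_odd S 2
  have h6 := card_even S 3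
  have h7 := card_odd S 3
  norm_num at h3 h4 h5 h6 h7
  rw [card_J_succ S (by norm_num) (by norm_num), card_J_succ S (by norm_num) (by norm_num),
    card_J_succ S (by norm_num) (by norm_num), card_J_succ S (by norm_num) (by norm_num),
    card_J_succ S (by norm_num) (by norm_num), card_J_empty S (by norm_num)]
  norm_num
  rw [h3, h4, h5, h6, h7]
  ring

/-- `|A ∩ NO| ≤ q⁷` when `A ∩ Z_4 Z_6 = 1` -/
theorem card_NO_le {A : Subgroup G} (hA : A ≤ S.NO) (hW : ∀ x ∈ A, x ∈ S.W46 → x = 1) :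
    Nat.card A ≤ Nat.card F ^ 7 := by
  have h1 : ∀ x ∈ S.NO, ∃ w : F × F, ∃ r ∈ J S.XZ 3 7, x = S.e 1 0 w.1 * r * S.e 4 0 w.2 := by
    intro x hx
    obtain ⟨u, v, r, hr, e⟩ := S.mem_NO_iff.1 hx
    exact ⟨(u, v), r, hr, e⟩
  choose! c hc using h1
  have h2 := card_le_of_fun (A := A) (K := J S.XZ 3 7) c Set.univ (fun _ _ => Set.mem_univ _) (by
    intro a ha b hb hab
    obtain ⟨r, hr, ea⟩ := hc a (hA ha)
    obtain ⟨r', hr', eb⟩ := hc b (hA hb)
    rw [ea, eb, hab]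
    have e : (S.e 1 0 (c b).1 * r * S.e 4 0 (c b).2)⁻¹ * (S.e 1 0 (c b).1 * r' * S.e 4 0 (c b).2) =
      (S.e 4 0 (c b).2)⁻¹ * (r⁻¹ * r') * (S.e 4 0 (c b).2)⁻¹⁻¹ := by group
    rw [e]
    exact S.zsys8.conj_J (a := 3) (b := 7) (c := 8) (d := 8) (by norm_num) (by norm_num) (by norm_num)
      (inv_mem (mem_J (S.mX8 _ _) le_rfl le_rfl)) (mul_mem (inv_mem hr) hr'))
  rw [Nat.card_congr (Equiv.Set.univ _), Nat.card_prod] at h2
  have h3 : Nat.card (A ⊓ J S.XZ 3 7 : Subgroup G) * Nat.card S.W46 ≤ Nat.card (J S.XZ 3 7) :=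
    card_mul_le inf_le_right (S.W46_le.trans (J_mono (by norm_num) (by norm_num))) (fun x hx hx' => hW x hx.1 hx')
  rw [card_W46, card_J37] at h3
  have hq : 0 < Nat.card F := Nat.card_pos
  have h4 : Nat.card (A ⊓ J S.XZ 3 7 : Subgroup G) ≤ Nat.card F ^ 5 := by
    refine Nat.le_of_mul_le_mul_right ?_ (pow_pos hq 2)
    calc _ ≤ Nat.card F ^ 7 := h3
      _ = _ := by ring
  calc Nat.card A ≤ _ := h2
    _ ≤ Nat.card F * Nat.card F * Nat.card F ^ 5 := Nat.mul_le_mul_left _ h4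
    _ = _ := by ring

/-- `C_LO(x) = X_1` for `1 ≠ x ∈ X_1` -/
theorem cent_X1 {x g : G} (hx : x ∈ S.XZ 1) (hx1 : x ≠ 1) (hg : g ∈ S.LO) (h : g * x = x * g) : g ∈ S.XZ 1 := by
  have hX : ∀ a ∈ S.XZ 1, ∀ b ∈ S.XZ 1, a * b = b * a := by
    intro a ha b hb
    obtain ⟨s, rfl⟩ := S.X1 ha
    obtain ⟨t, rfl⟩ := S.X1 hb
    rw [S.o_add, S.o_add, add_comm]
  rcases H42.Deg.F4.LO_bruhat S hg with hb | ⟨y, hy, b, hb, rfl⟩
  · obtain ⟨y, hy, t, ht, rfl⟩ := H42.Deg.F4.BM_form S hb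
    obtain ⟨c, rfl⟩ := ht
    obtain ⟨s, rfl⟩ := S.X1 hx
    have h1 : S.h c c * S.o 0 s = S.o 0 s * S.h c c := by
      have h2 : y * (S.h c c * S.o 0 s) = y * (S.o 0 s * S.h c c) := by
        calc y * (S.h c c * S.o 0 s) = (y * S.h c c) * S.o 0 s := by group
          _ = S.o 0 s * (y * S.h c c) := h
          _ = (S.o 0 s * y) * S.h c c := by group
          _ = y * (S.o 0 s * S.h c c) := by rw [hX _ hx _ hy]; group
      exact mul_left_cancel h2
    rw [← mul_inv_eq_iff_eq_mul, S.h_o] at h1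
    have h2 := S.injO 0 h1
    have hs : s ≠ 0 := by rintro rfl; exact hx1 (S.o_zero 0)
    have h3 : (c * c : Fˣ) = 1 := by
      apply Units.ext
      rw [Units.val_one]
      exact mul_right_cancel₀ hs (by rw [one_mul]; exact h2)
    have h4 : c = 1 := SylU.unit_sq S h3
    rw [h4, S.h_one, mul_one]; exact hy
  · exfalso
    have h1 : b * x * b⁻¹ ∈ S.XZ 1 := H42.Deg.F4.BM_norm S hb hx
    have h2 : S.n1 * (b * x * b⁻¹) * S.n1⁻¹ = x := by
      have e : y * S.n1 * b * x = x * (y * S.n1 * b) := h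
      have e2 : y * (S.n1 * (b * x * b⁻¹) * S.n1⁻¹) = y * x := by
        calc y * (S.n1 * (b * x * b⁻¹) * S.n1⁻¹) = (y * S.n1 * b * x) * (b⁻¹ * S.n1⁻¹) := by group
          _ = x * y := by rw [e]; group
          _ = y * x := hX _ hx _ hy
      exact mul_left_cancel e2
    obtain ⟨s, hs⟩ := S.X1 h1
    have h3 : x ∈ S.XZ 9 := by
      rw [← h2, ← hs, H42.Deg.F4.n1_X1]
      exact S.mX9 s
    exact hx1 (S.X_inf_opp (i := 1) hx h3)

theorem LO_inf_NO (hF : ∃ c : Fˣ, c ≠ 1) {x : G} (hx : x ∈ S.LO) (hx' : x ∈ S.NO) : x = 1 :=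
  H42.Deg.F4.LO_inf_N1 S hF hx (Subgroup.mem_sup_right hx'.1)

theorem NO_norm {g x : G} (hg : g ∈ S.HO) (hx : x ∈ S.NO) : g * x * g⁻¹ ∈ S.NO := by
  have hg9 : g ∈ J S.XZ 1 9 := by
    have : S.HO ≤ J S.XZ 1 9 := sup_le S.LO_le_J (inf_le_left.trans (J_mono (by norm_num) (by norm_num)))
    exact this hg
  refine ⟨S.zsys8.conj_J (a := 2) (b := 8) (c := 1) (d := 9) (by norm_num) (by norm_num) (by norm_num) hg9 hx.1, ?_⟩
  have h1 := S.HO_le_cent hg
  exact (Subgroup.centralizer (S.XZ 5 : Set G)).mul_mem ((Subgroup.centralizer (S.XZ 5 : Set G)).mul_mem h1 hx.2)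
    ((Subgroup.centralizer (S.XZ 5 : Set G)).inv_mem h1)

/-- abelian subgroups of `LO` of order prime to `q - 1` -/
theorem card_LO_le {k : ℕ} (hk : 2 ≤ k) (hq : Nat.card F = 2 ^ k) {B : Subgroup G} (hB : B ≤ S.LO)
    (hc : ∀ x ∈ B, ∀ y ∈ B, x * y = y * x) (hcop : (Nat.card B).Coprime (Nat.card F - 1)) :
    Nat.card B ≤ Nat.card F + 1 := by
  have hFu : Nat.card Fˣ = Nat.card F - 1 := Nat.card_units F
  have hF4 : 4 ≤ Nat.card F := by
    rw [hq]
    calc 4 = 2 ^ 2 := rfl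
      _ ≤ 2 ^ k := Nat.pow_le_pow_right (by norm_num) hk
  have hF : ∃ c : Fˣ, c ≠ 1 := by
    have h3 : 1 < Nat.card Fˣ := by omega
    have : Nontrivial Fˣ := Finite.one_lt_card_iff_nontrivial.1 h3
    exact exists_ne 1
  have hLO := H42.Deg.F4.card_LO S
  rw [hFu] at hLO
  by_cases h2 : 2 ∣ Nat.card B
  · -- an involution of `B`
    have hfact : Fact (Nat.Prime 2) := ⟨Nat.prime_two⟩
    obtain ⟨b, hb⟩ := exists_prime_orderOf_dvd_card' 2 h2
    have hbLO : (b : G) ∈ S.LO := hB b.2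
    have hb2 : (b : G) * b = 1 := by
      have := pow_orderOf_eq_one b
      rw [hb, pow_two] at this
      exact congrArg Subtype.val this
    have hb1 : (b : G) ≠ 1 := by
      intro h
      have : b = 1 := Subtype.ext h
      rw [this, orderOf_one] at hb
      omega
    -- conjugate into `X_1`
    have hX1c : Nat.card (S.XZ 1) = Nat.card F := H42.Deg.F4.card_X1 S
    have hconj : ∃ l ∈ S.LO, l * b * l⁻¹ ∈ S.XZ 1 := by
      have hX1L : S.XZ 1 ≤ S.LO := le_sup_left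
      have hUU : Nat.card (H42.Deg.F4.UU S) = 2 ^ k := by
        rw [← hq, ← hX1c]
        exact Nat.card_congr (Subgroup.subgroupOfEquivOfLe hX1L).toEquiv
      have hp : IsPGroup 2 (H42.Deg.F4.UU S) := IsPGroup.of_card hUU
      have hi : ¬ 2 ∣ (H42.Deg.F4.UU S).index := by
        have h1 := (H42.Deg.F4.UU S).card_mul_index
        rw [hUU, hLO, ← hq] at h1
        have h3 : (H42.Deg.F4.UU S).index = (Nat.card F - 1) * (Nat.card F + 1) := by
          have h4 : Nat.card F * (H42.Deg.F4.UU S).index = Nat.card F * ((Nat.card F - 1) * (Nat.card F + 1)) := by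
            rw [h1]; ring
          exact Nat.eq_of_mul_eq_mul_left (by omega) h4
        rw [h3]
        have h5 : Even (Nat.card F) := by
          rw [hq]; exact (Nat.even_pow' (by omega)).2 even_two
        have h6 : Odd (Nat.card F - 1) := Nat.Even.sub_odd (by omega) h5 odd_one
        have h7 : Odd (Nat.card F + 1) := h5.add_one
        have h8 := h6.mul h7
        rw [← even_iff_two_dvd]
        exact Nat.not_even_iff_odd.2 h8
      let P := hp.toSylow hi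
      have h2' : IsPGroup 2 (Subgroup.zpowers (⟨b, hbLO⟩ : S.LO)) := by
        rintro ⟨x, hx⟩
        obtain ⟨n, rfl⟩ := Subgroup.mem_zpowers_iff.1 hx
        refine ⟨1, Subtype.ext (Subtype.ext ?_)⟩
        show ((b : G) ^ n) ^ (2 ^ 1) = 1
        rw [pow_one, pow_two, ← zpow_add, ← two_mul, zpow_mul, zpow_two, hb2, one_zpow]
      obtain ⟨P', hP'⟩ := h2'.exists_le_sylow
      obtain ⟨l, hl⟩ := MulAction.exists_smul_eq S.LO P' P
      have h9 : l * (⟨b, hbLO⟩ : S.LO) * l⁻¹ ∈ (P : Subgroup S.LO) := by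
        rw [← hl]
        show l * (⟨b, hbLO⟩ : S.LO) * l⁻¹ ∈ ((MulAut.conj l • (P' : Subgroup S.LO) : Subgroup S.LO))
        exact Subgroup.smul_mem_pointwise_smul _ (MulAut.conj l) _ (hP' (Subgroup.mem_zpowers _))
      exact ⟨l, l.2, h9⟩
    obtain ⟨l, hl, hlx⟩ := hconj
    have hle : B.map (MulAut.conj l).toMonoidHom ≤ S.XZ 1 := by
      rintro _ ⟨y, hy, rfl⟩
      show l * y * l⁻¹ ∈ S.XZ 1
      refine cent_X1 S hlx ?_ (mul_mem (mul_mem hl (hB hy)) (inv_mem hl)) ?_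
      · intro h
        apply hb1
        have : l * (b : G) * l⁻¹ = l * 1 * l⁻¹ := by rw [h]; group
        exact mul_left_cancel (mul_right_cancel this)
      · calc l * y * l⁻¹ * (l * b * l⁻¹) = l * (y * b) * l⁻¹ := by group
          _ = l * (b * y) * l⁻¹ := by rw [hc y hy b b.2]
          _ = l * b * l⁻¹ * (l * y * l⁻¹) := by group
    have h3 := Subgroup.card_le_of_le hle
    rw [hX1c, Nat.card_congr (Subgroup.equivMapOfInjective B _ (MulAut.conj l).injective).symm.toEquiv] at h3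
    omega
  · -- odd order
    have h3 : Nat.card B ∣ Nat.card S.LO := Subgroup.card_dvd_of_le hB
    rw [hLO] at h3
    have h4 : (Nat.card B).Coprime (Nat.card F) := by
      rw [hq]
      exact Nat.Coprime.pow_right _ ((Nat.Prime.coprime_iff_not_dvd Nat.prime_two).2 h2).symm
    have h5 : Nat.card B ∣ Nat.card F + 1 := by
      refine (Nat.Coprime.mul_right h4 hcop).dvd_of_dvd_mul_left h3
    exact Nat.le_of_dvd (by omega) h5

/-- **abelian subgroups of `C(o)`** -/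
theorem card_HO_le {k : ℕ} (hk : 2 ≤ k) (hq : Nat.card F = 2 ^ k) {A : Subgroup G} (hA : A ≤ S.HO)
    (hc : ∀ x ∈ A, ∀ y ∈ A, x * y = y * x) (hcop : (Nat.card A).Coprime (Nat.card F - 1))
    (hW : ∀ x ∈ A, x ∈ S.W46 → x = 1) : Nat.card A ≤ Nat.card F ^ 7 * (Nat.card F + 1) := by
  have hF4 : 4 ≤ Nat.card F := by
    rw [hq]
    calc 4 = 2 ^ 2 := rfl
      _ ≤ 2 ^ k := Nat.pow_le_pow_right (by norm_num) hk
  have hF : ∃ c : Fˣ, c ≠ 1 := by
    have h3 : 1 < Nat.card Fˣ := by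
      rw [Nat.card_units]; omega
    have : Nontrivial Fˣ := Finite.one_lt_card_iff_nontrivial.1 h3
    exact exists_ne 1
  obtain ⟨B, hBL, hBc, hcard⟩ := card_split (P := S.HO) (N := S.NO) (L := S.LO) (A := A)
    (fun g hg n hn => NO_norm S hg hn) le_sup_left
    (fun g hg => mem_sup_of_norm (fun l hl n hn => NO_norm S (Subgroup.mem_sup_left hl) hn) hg)
    (fun x h1 h2 => LO_inf_NO S hF h1 h2) hA hc
  have h1 : Nat.card B ≤ Nat.card F + 1 := by
    refine card_LO_le S hk hq hBL hBc (Nat.Coprime.coprime_dvd_left ?_ hcop)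
    rw [hcard]; exact Dvd.intro_left _ rfl
  have h2 : Nat.card (A ⊓ S.NO : Subgroup G) ≤ Nat.card F ^ 7 :=
    card_NO_le S inf_le_right (fun x hx hx' => hW x hx.1 hx')
  rw [hcard]
  exact Nat.mul_le_mul h2 h1

end Cfsg.Agent.H991.TwFAb
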