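import Cfsg.Agent.H991.TwFAb.QBound
import Cfsg.Agent.KFacts.TwF4.TorEx
import Cfsg.Agent.H127.TwFInv
import Cfsg.Agent.H84.SzLevi
import Cfsg.Agent.H753.AbSz

/-!
# Abelian subgroups of the centraliser of a 2-central involution of `²F₄(q)` (helper991, for S2501)

`card_PL_cube` : `|A|³ < q²⁰ (q - 1)² (q² + 1)` for an abelian subgroup `A` of `C(z)`.
-/

set_option autoImplicit false
set_option linter.unusedSectionVars false

namespace Cfsg.Agent.H991.TwFAb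

open Cfsg.Agent.SplitTwo Cfsg.Agent.SplitTwo.ZS Cfsg.Agent.TitsThree.RankTwoZ Cfsg.Agent.KFacts.TwF4
open Cfsg.Agent.KFacts.TwF4.Arc Cfsg.Agent.KFacts.TwF4.Irr Cfsg.Agent.H392.TwFFour Cfsg.Agent.KFacts.TwF4.Inv
  Cfsg.Agent.KFacts.TwF4.TorEx Cfsg.Agent.KFacts.TwF4.Perf

universe u

variable {F : Type*} [Field F] {σ : F →+* F} {G : Type u} [Group G] (S : Full σ G)

/-- abelian subgroups of Suzuki groups -/
theorem suz_cube {L : Type*} [Group L] (h : Cfsg.Lie.IsoSuzuki L) {B : Subgroup L}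
    (hB : ∀ x ∈ B, ∀ y ∈ B, x * y = y * x) : Nat.card B ^ 3 < Nat.card L := by
  obtain ⟨F, _, _, m, hm, hF, ⟨e⟩⟩ := h
  obtain ⟨f⟩ := OddCyclic.ClaimC.SzIso.iso hm hF
  exact ((H753.AbSz.ab3_Sz_aux hm hF).congr (f.trans e.symm)) B (Cfsg.Agent.H498.Ab.comm_iff.2 hB)

theorem L4_inf_Q (hF : ∃ c : Fˣ, c ≠ 1) {x : G} (hx : x ∈ L4 S) (hx' : x ∈ S.Q) : x = 1 := by
  obtain ⟨w, hw⟩ := hF
  obtain ⟨h, hT, h1, h2⟩ := exists_tt S hw 0
  have h3 : L4 S ≤ Subgroup.centralizer {h} := by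
    refine sup_le (fun y hy => ?_) (fun y hy => ?_)
    · rw [Subgroup.mem_centralizer_singleton_iff]
      exact (mul_inv_eq_iff_eq_mul.1 (h1 0 ⟨0, by norm_num⟩ y hy)).symm
    · rw [Subgroup.mem_centralizer_singleton_iff]
      exact (mul_inv_eq_iff_eq_mul.1 (h1 8 ⟨1, by norm_num⟩ y hy)).symm
  have h4 : h * x * h⁻¹ = x := by
    have := Subgroup.mem_centralizer_singleton_iff.1 (h3 hx)
    rw [← this, mul_inv_cancel_right]
  exact S.fix_J_one hT (a := 1) (b := 7) (by norm_num) (fun j h5 h6 y hy hty => h2 j (by omega) y hy hty) hx' h4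

variable [Finite F] [Finite G]

theorem card_UT_le : Nat.card (J S.XZ 1 8 ⊔ S.T : Subgroup G) ≤ Nat.card F ^ 12 * (Nat.card F - 1) ^ 2 := by
  rw [← card_U S, ← card_T S, ← Nat.card_prod]
  refine Nat.card_le_card_of_surjective
    (fun w : J S.XZ 1 8 × S.T => (⟨w.1 * w.2, Subgroup.mul_mem_sup w.1.2 w.2.2⟩ : (J S.XZ 1 8 ⊔ S.T : Subgroup G))) ?_
  rintro ⟨g, hg⟩
  obtain ⟨u, hu, t, ht, rfl⟩ := H127.TwFInv.form_BT S hg
  exact ⟨(⟨u, hu⟩, ⟨t, ht⟩), rfl⟩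

theorem card_mul_le {P L N : Subgroup G} (hL : L ≤ P) (hN : N ≤ P) (h : ∀ x ∈ L, x ∈ N → x = 1) :
    Nat.card L * Nat.card N ≤ Nat.card P := by
  rw [← Nat.card_prod]
  refine Nat.card_le_card_of_injective (fun w : L × N => (⟨w.1 * w.2, mul_mem (hL w.1.2) (hN w.2.2)⟩ : P)) ?_
  rintro ⟨⟨a, ha⟩, ⟨b, hb⟩⟩ ⟨⟨c, hc⟩, ⟨d, hd⟩⟩ hab
  have h1 : a * b = c * d := congrArg Subtype.val hab
  have h2 : c⁻¹ * a = d * b⁻¹ := by rw [inv_mul_eq_iff_eq_mul, ← mul_assoc, ← h1, mul_inv_cancel_right]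
  have h3 : c⁻¹ * a = 1 := h _ (mul_mem (inv_mem hc) ha) (by rw [h2]; exact mul_mem hd (inv_mem hb))
  have h4 : a = c := (inv_mul_eq_one.1 h3).symm
  subst h4
  have h5 : b = d := mul_left_cancel h1
  subst h5
  rfl

theorem card_L4_le (hF : ∃ c : Fˣ, c ≠ 1) :
    Nat.card (L4 S) ≤ Nat.card F ^ 2 * (Nat.card F - 1) ^ 2 * (1 + Nat.card F * Nat.card F) := by
  have h1 : Nat.card (L4 S) * Nat.card S.Q ≤ Nat.card S.PL :=
    card_mul_le (L4_le_PL S) (Q_le_PL S) (fun x h1 h2 => L4_inf_Q S hF h1 h2)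
  rw [card_Q, H127.TwFInv.card_PL S] at h1
  have h2 : Nat.card (S.PL ⊓ (J S.XZ 1 8 ⊔ S.T) : Subgroup G) ≤ Nat.card F ^ 12 * (Nat.card F - 1) ^ 2 :=
    (Subgroup.card_le_of_le inf_le_right).trans (card_UT_le S)
  have hq : 0 < Nat.card F ^ 10 := pow_pos Nat.card_pos _
  refine Nat.le_of_mul_le_mul_right ?_ hq
  calc Nat.card (L4 S) * Nat.card F ^ 10 ≤ _ := h1
    _ ≤ Nat.card F ^ 12 * (Nat.card F - 1) ^ 2 * (1 + Nat.card F * Nat.card F) := Nat.mul_le_mul_right _ h2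
    _ = _ := by ring

/-- **abelian subgroups of `C(z)`** -/
theorem card_PL_cube {k : ℕ} (hk : 2 ≤ k) (hF : Nat.card F = 2 ^ k) {A : Subgroup G} (hA : A ≤ S.PL)
    (hc : ∀ x ∈ A, ∀ y ∈ A, x * y = y * x) :
    Nat.card A ^ 3 < Nat.card F ^ 20 * (Nat.card F - 1) ^ 2 * (Nat.card F ^ 2 + 1) := by
  have hF1 : ∃ c : Fˣ, c ≠ 1 := by
    have h1 : Nat.card Fˣ = Nat.card F - 1 := Nat.card_units F
    have h2 : 4 ≤ Nat.card F := by
      rw [hF]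
      calc 4 = 2 ^ 2 := rfl
        _ ≤ 2 ^ k := Nat.pow_le_pow_right (by norm_num) hk
    have h3 : 1 < Nat.card Fˣ := by omega
    have : Nontrivial Fˣ := Finite.one_lt_card_iff_nontrivial.1 h3
    exact exists_ne 1
  obtain ⟨B, hBL, hBc, hcard⟩ := card_split (P := S.PL) (N := S.Q) (L := L4 S) (A := A)
    (fun g hg n hn => Q_norm S hg hn) (L4_le_PL S) (fun g hg => PL_split S hg)
    (fun x h1 h2 => L4_inf_Q S hF1 h1 h2) hA hc
  have hI : Cfsg.Lie.IsoSuzuki ↥(L4 S) := by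
    have h1 := H84.GaussTwF4.LL_iso S hk hF
    rw [H84.GaussTwF4.LJ_eq] at h1
    have h2 : H84.GaussTwF4.LL S = L4 S := sup_comm _ _
    rwa [h2] at h1
  have hB3 : Nat.card B ^ 3 < Nat.card (L4 S) := by
    have h1 := suz_cube hI (B := B.subgroupOf (L4 S)) (by
      intro x hx y hy
      exact Subtype.ext (hBc _ hx _ hy))
    rwa [Nat.card_congr (Subgroup.subgroupOfEquivOfLe hBL).toEquiv] at h1
  have h6 : Nat.card (A ⊓ S.Q : Subgroup G) ≤ Nat.card F ^ 6 :=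
    card_le_Q S inf_le_right (fun x hx y hy => hc x hx.1 y hy.1)
  have hpos : 0 < Nat.card (A ⊓ S.Q : Subgroup G) := Nat.card_pos
  calc Nat.card A ^ 3 = Nat.card (A ⊓ S.Q : Subgroup G) ^ 3 * Nat.card B ^ 3 := by rw [hcard, mul_pow]
    _ < Nat.card (A ⊓ S.Q : Subgroup G) ^ 3 * Nat.card (L4 S) := Nat.mul_lt_mul_of_pos_left hB3 (pow_pos hpos 3)
    _ ≤ (Nat.card F ^ 6) ^ 3 * (Nat.card F ^ 2 * (Nat.card F - 1) ^ 2 * (1 + Nat.card F * Nat.card F)) :=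
      Nat.mul_le_mul (Nat.pow_le_pow_left h6 3) (card_L4_le S hF1)
    _ = _ := by ring

end Cfsg.Agent.H991.TwFAb
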