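import Cfsg.Agent.H498.Ab.Def

/-!
# Generalities for the abelian subgroups of `²F₄(q)` (helper991, for S2501)

* `orth_card` : orthogonal sets of vectors in `F ^ 4`;
* `card_le_of_fun` : counting through a function;
* `card_split` : abelian subgroups of a split extension `P = L N`;
* `exists_conj_of_order` : fixed points of a map of prime order on a 2-group.
-/

set_option autoImplicit false
set_option linter.unusedSectionVars false

namespace Cfsg.Agent.H991.TwFAb

open Subgroup Cfsg.Agent.H498.Ab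

/-- orthogonal sets of vectors -/
theorem orth_card {F : Type*} [Field F] [Finite F] {n : ℕ} (X Y : Set (Fin n → F)) (h : ∀ x ∈ X, ∀ y ∈ Y, x ⬝ᵥ y = 0) :
    Nat.card X * Nat.card Y ≤ Nat.card F ^ n := by
  classical
  have : Fintype F := Fintype.ofFinite F
  let W : Submodule F (Fin n → F) := Submodule.span F X
  let B : LinearMap.BilinForm F (Fin n → F) := Matrix.toBilin' (1 : Matrix (Fin n) (Fin n) F)
  have hB : ∀ x y, B x y = x ⬝ᵥ y := by
    intro x y
    rw [Matrix.toBilin'_apply']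
    rw [Matrix.one_mulVec]
  have hnd : B.Nondegenerate := by
    exact LinearMap.BilinForm.nondegenerate_toBilin'_of_det_ne_zero' _ (by rw [Matrix.det_one]; exact one_ne_zero)
  have h1 := LinearMap.BilinForm.finrank_orthogonal hnd W
  have hX : X ⊆ (W : Set (Fin n → F)) := Submodule.subset_span
  have hY : Y ⊆ (B.orthogonal W : Set (Fin n → F)) := by
    intro y hy
    rw [SetLike.mem_coe, LinearMap.BilinForm.mem_orthogonal_iff]
    intro x hx
    show B x y = 0
    rw [hB]
    refine Submodule.span_induction (p := fun x _ => x ⬝ᵥ y = 0) ?_ ?_ ?_ ?_ hx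
    · exact fun x hx => h x hx y hy
    · exact zero_dotProduct y
    · intro a b _ _ ha hb
      rw [add_dotProduct, ha, hb, add_zero]
    · intro c a _ ha
      rw [smul_dotProduct, ha, smul_zero]
  have c1 : Nat.card X ≤ Nat.card W := Nat.card_mono (Set.toFinite _) hX
  have c2 : Nat.card Y ≤ Nat.card (B.orthogonal W) := Nat.card_mono (Set.toFinite _) hY
  have d1 : Nat.card W = Nat.card F ^ Module.finrank F W := by
    rw [Nat.card_eq_fintype_card, Nat.card_eq_fintype_card, Module.card_eq_pow_finrank (K := F)]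
  have d2 : Nat.card (B.orthogonal W) = Nat.card F ^ Module.finrank F (B.orthogonal W) := by
    rw [Nat.card_eq_fintype_card, Nat.card_eq_fintype_card, Module.card_eq_pow_finrank (K := F)]
  have h2 : Module.finrank F W ≤ n := by
    have := Submodule.finrank_le W
    rwa [Module.finrank_fin_fun] at this
  calc Nat.card X * Nat.card Y ≤ Nat.card W * Nat.card (B.orthogonal W) := Nat.mul_le_mul c1 c2
    _ = Nat.card F ^ n := by
      rw [d1, d2, ← pow_add, h1, Module.finrank_fin_fun]
      congr 1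
      omega

section grp

variable {G : Type*} [Group G] [Finite G]

/-- counting through a function -/
theorem card_le_of_fun {A K : Subgroup G} {α : Type*} [Finite α] (f : G → α) (X : Set α) (hX : ∀ a ∈ A, f a ∈ X)
    (hf : ∀ a ∈ A, ∀ b ∈ A, f a = f b → a⁻¹ * b ∈ K) : Nat.card A ≤ Nat.card X * Nat.card (A ⊓ K : Subgroup G) := by
  classical
  -- a section of `f`
  let r : α → G := fun x => if h : ∃ a ∈ A, f a = x then h.choose else 1
  have hr : ∀ a ∈ A, r (f a) ∈ A ∧ f (r (f a)) = f a := by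
    intro a ha
    have h : ∃ b ∈ A, f b = f a := ⟨a, ha, rfl⟩
    have e : r (f a) = h.choose := dif_pos h
    rw [e]
    exact h.choose_spec
  rw [← Nat.card_prod]
  refine Nat.card_le_card_of_injective
    (fun a : A => ((⟨f a, hX a a.2⟩ : X), (⟨(r (f a))⁻¹ * a, A.mul_mem (A.inv_mem (hr a a.2).1) a.2,
      hf _ (hr a a.2).1 _ a.2 (hr a a.2).2⟩ : (A ⊓ K : Subgroup G)))) ?_
  intro a b hab
  obtain ⟨e1, e2⟩ := Prod.ext_iff.1 hab
  have e3 : f a = f b := congrArg Subtype.val e1
  have e4 : (r (f a))⁻¹ * (a : G) = (r (f b))⁻¹ * (b : G) := congrArg Subtype.val e2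
  rw [e3] at e4
  exact Subtype.ext (mul_left_cancel e4)

/-- abelian subgroups of a split extension -/
theorem card_split {P N L A : Subgroup G} (hN : ∀ g ∈ P, ∀ n ∈ N, g * n * g⁻¹ ∈ N) (hLP : L ≤ P)
    (hPL : ∀ g ∈ P, ∃ l ∈ L, ∃ n ∈ N, g = l * n) (hLN : ∀ x ∈ L, x ∈ N → x = 1) (hA : A ≤ P)
    (hAc : ∀ x ∈ A, ∀ y ∈ A, x * y = y * x) :
    ∃ B : Subgroup G, B ≤ L ∧ (∀ x ∈ B, ∀ y ∈ B, x * y = y * x) ∧
      Nat.card A = Nat.card (A ⊓ N : Subgroup G) * Nat.card B := by
  classical
  have huniq : ∀ l ∈ L, ∀ n ∈ N, ∀ l' ∈ L, ∀ n' ∈ N, l * n = l' * n' → l = l' := by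
    intro l hl n hn l' hl' n' hn' h
    have h1 : l'⁻¹ * l = n' * n⁻¹ := by
      rw [inv_mul_eq_iff_eq_mul, ← mul_assoc, ← h, mul_inv_cancel_right]
    have h2 := hLN _ (mul_mem (inv_mem hl') hl) (by rw [h1]; exact mul_mem hn' (inv_mem hn))
    exact (inv_mul_eq_one.1 h2).symm
  have hN' : ∀ g ∈ P, ∀ n ∈ N, g⁻¹ * n * g ∈ N := by
    intro g hg n hn
    have := hN g⁻¹ (inv_mem hg) n hn
    rwa [inv_inv] at this
  let B : Subgroup G :=
    { carrier := {l | l ∈ L ∧ ∃ n ∈ N, l * n ∈ A}
      one_mem' := ⟨one_mem _, 1, one_mem _, by rw [mul_one]; exact one_mem _⟩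
      mul_mem' := by
        rintro l l' ⟨hl, n, hn, h⟩ ⟨hl', n', hn', h'⟩
        refine ⟨mul_mem hl hl', (l'⁻¹ * n * l') * n', mul_mem (hN' _ (hLP hl') _ hn) hn', ?_⟩
        have e : l * l' * (l'⁻¹ * n * l' * n') = (l * n) * (l' * n') := by group
        rw [e]; exact mul_mem h h'
      inv_mem' := by
        rintro l ⟨hl, n, hn, h⟩
        refine ⟨inv_mem hl, l * n⁻¹ * l⁻¹, hN _ (hLP hl) _ (inv_mem hn), ?_⟩
        have e : l⁻¹ * (l * n⁻¹ * l⁻¹) = (l * n)⁻¹ := by group
        rw [e]; exact inv_mem h }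
  have hBL : B ≤ L := fun l hl => hl.1
  refine ⟨B, hBL, ?_, ?_⟩
  · rintro l ⟨hl, n, hn, h⟩ l' ⟨hl', n', hn', h'⟩
    refine huniq (l * l') (mul_mem hl hl') ((l'⁻¹ * n * l') * n') (mul_mem (hN' _ (hLP hl') _ hn) hn') (l' * l)
      (mul_mem hl' hl) ((l⁻¹ * n' * l) * n) (mul_mem (hN' _ (hLP hl) _ hn') hn) ?_
    calc l * l' * (l'⁻¹ * n * l' * n') = (l * n) * (l' * n') := by group
      _ = (l' * n') * (l * n) := hAc _ h _ h'
      _ = l' * l * (l⁻¹ * n' * l * n) := by group
  · -- the projection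
    choose! lf hlf nf hnf hfe using hPL
    have hlB : ∀ a ∈ A, lf a ∈ B := fun a ha => ⟨hlf a (hA ha), nf a, hnf a (hA ha), by rw [← hfe a (hA ha)]; exact ha⟩
    let f : A →* B :=
      { toFun := fun a => ⟨lf a, hlB a a.2⟩
        map_one' := by
          apply Subtype.ext
          show lf 1 = 1
          refine huniq _ (hlf 1 (one_mem _)) _ (hnf 1 (one_mem _)) 1 (one_mem _) 1 (one_mem _) ?_
          rw [← hfe 1 (one_mem _), mul_one]
        map_mul' := by
          intro a b
          apply Subtype.ext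
          show lf (a * b) = lf a * lf b
          have hab : (a : G) * b ∈ P := mul_mem (hA a.2) (hA b.2)
          have hb := hlf b (hA b.2)
          refine huniq _ (hlf _ hab) _ (hnf _ hab) (lf a * lf b) (mul_mem (hlf a (hA a.2)) hb)
            (((lf b)⁻¹ * nf a * lf b) * nf b) (mul_mem (hN' _ (hLP hb) _ (hnf a (hA a.2))) (hnf b (hA b.2))) ?_
          rw [← hfe _ hab]
          calc (a : G) * b = (lf a * nf a) * (lf b * nf b) := by rw [← hfe a (hA a.2), ← hfe b (hA b.2)]
            _ = _ := by group }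
    have hsurj : Function.Surjective f := by
      rintro ⟨l, hl, n, hn, h⟩
      refine ⟨⟨l * n, h⟩, Subtype.ext ?_⟩
      show lf (l * n) = l
      exact huniq _ (hlf _ (hA h)) _ (hnf _ (hA h)) l hl n hn (hfe _ (hA h)).symm
    have hker : Nat.card f.ker = Nat.card (A ⊓ N : Subgroup G) := by
      refine Nat.card_congr
        { toFun := fun x => ⟨x.1.1, x.1.2, ?_⟩
          invFun := fun x => ⟨⟨x.1, x.2.1⟩, ?_⟩
          left_inv := fun x => rfl
          right_inv := fun x => rfl }
      · have h1 : f x.1 = 1 := x.2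
        have h2 : lf (x.1 : G) = 1 := congrArg Subtype.val h1
        have h3 := hfe _ (hA x.1.2)
        rw [h2, one_mul] at h3
        rw [SetLike.mem_coe, h3]
        exact hnf _ (hA x.1.2)
      · rw [MonoidHom.mem_ker]
        apply Subtype.ext
        show lf x.1 = 1
        exact huniq _ (hlf _ (hA x.2.1)) _ (hnf _ (hA x.2.1)) 1 (one_mem _) x.1 x.2.2
          (by rw [one_mul]; exact (hfe _ (hA x.2.1)).symm)
    have h1 := Subgroup.card_mul_index f.ker
    rw [Subgroup.index_ker, MonoidHom.range_eq_top.2 hsurj, Subgroup.card_top, hker] at h1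
    exact h1.symm

/-- `u y` and `y` have the same prime order `r`, `y` normalises the group `P` of order prime to `r`, `u ∈ P`: then
`u y = p y p⁻¹` with `p ∈ P`. -/
theorem exists_conj_of_order {P : Subgroup G} {r : ℕ} (hr : r.Prime) (hPr : ¬ r ∣ Nat.card P) {u y : G} (hu : u ∈ P)
    (hyP : ∀ x ∈ P, y * x * y⁻¹ ∈ P) (hy : y ^ r = 1) (huy : (u * y) ^ r = 1) : ∃ p ∈ P, u * y = p * y * p⁻¹ := by
  classical
  have : Fact r.Prime := ⟨hr⟩
  let f : P → P := fun p => ⟨u * y * p * y⁻¹, by
    have e : u * y * (p : G) * y⁻¹ = u * (y * p * y⁻¹) := by group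
    rw [e]; exact mul_mem hu (hyP _ p.2)⟩
  have hit : ∀ (n : ℕ) (p : P), ((f^[n] p : P) : G) = (u * y) ^ n * p * (y ^ n)⁻¹ := by
    intro n
    induction n with
    | zero => intro p; simp
    | succ n ih =>
      intro p
      rw [Function.iterate_succ_apply', pow_succ', pow_succ]
      show u * y * (f^[n] p : P) * y⁻¹ = _
      rw [ih]
      group
  have hfr : f^[r] = id := by
    funext p
    apply Subtype.ext
    rw [hit, huy, hy]
    simp
  have : Fintype P := Fintype.ofFinite P
  let g : Function.End P := f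
  have h1 : g ^ r ^ 1 = 1 := by
    rw [pow_one]
    have : ∀ n : ℕ, g ^ n = f^[n] := by
      intro n
      induction n with
      | zero => rfl
      | succ n ih => rw [pow_succ, ih]; rfl
    rw [this]; exact hfr
  have h2 := Equiv.Perm.card_fixedPoints_modEq (p := r) (n := 1) (f := g) h1
  have h3 : ∃ p : P, f p = p := by
    by_contra hne
    push Not at hne
    have h4 : Fintype.card (Function.fixedPoints f) = 0 := by
      rw [Fintype.card_eq_zero_iff]
      exact ⟨fun x => hne x.1 x.2⟩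
    have h5 : Fintype.card P ≡ Fintype.card (Function.fixedPoints f) [MOD r] := by convert h2
    rw [h4] at h5
    apply hPr
    rw [Nat.card_eq_fintype_card]
    exact (Nat.modEq_zero_iff_dvd.1 h5)
  obtain ⟨p, hp⟩ := h3
  refine ⟨p, p.2, ?_⟩
  have h4 : u * y * (p : G) * y⁻¹ = p := congrArg Subtype.val hp
  rw [eq_mul_inv_iff_mul_eq]
  rw [mul_inv_eq_iff_eq_mul] at h4
  exact h4

end grp

end Cfsg.Agent.H991.TwFAb
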