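import Cfsg.Agent.H991.TwFAb.TorusC

/-!
# Abelian subgroups of `²F₄(q)`: the assembly (helper991, for S2501)
-/

set_option autoImplicit false
set_option linter.unusedSectionVars false

namespace Cfsg.Agent.H991.TwFAb

open Cfsg.Agent.SplitTwo Cfsg.Agent.SplitTwo.ZS Cfsg.Agent.TitsThree.RankTwoZ Cfsg.Agent.KFacts.TwF4
open Cfsg.Agent.KFacts.TwF4.Arc Cfsg.Agent.KFacts.TwF4.Irr Cfsg.Agent.H392.TwFFour Cfsg.Agent.KFacts.TwF4.Inv
  Cfsg.Agent.KFacts.TwF4.TorEx Cfsg.Agent.KFacts.TwF4.Perf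
open scoped Pointwise

universe u

/-! ### arithmetic -/

/-- the order -/
def ord (q : ℕ) : ℕ := q ^ 12 * (q - 1) * (q ^ 3 + 1) * (q ^ 4 - 1) * (q ^ 6 + 1)

theorem ord_ge {q : ℕ} (hq : 8 ≤ q) : 49 * q ^ 24 ≤ ord q := by
  have h1 : 7 * q ≤ 8 * (q - 1) := by omega
  have hq4 : 8 ≤ q ^ 4 := le_trans hq (Nat.le_self_pow (by norm_num) q)
  have h2 : 7 * q ^ 4 ≤ 8 * (q ^ 4 - 1) := by omega
  have h3 : q ^ 3 ≤ q ^ 3 + 1 := Nat.le_succ _
  have h4 : q ^ 6 ≤ q ^ 6 + 1 := Nat.le_succ _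
  have h5 : q ^ 12 * (7 * q) * q ^ 3 * (7 * q ^ 4) * q ^ 6 ≤
      q ^ 12 * (8 * (q - 1)) * (q ^ 3 + 1) * (8 * (q ^ 4 - 1)) * (q ^ 6 + 1) := by gcongr
  have h6 : 64 ≤ q ^ 2 := by nlinarith
  have h7 : 64 * (49 * q ^ 24) ≤ 64 * ord q := by
    calc 64 * (49 * q ^ 24) ≤ q ^ 2 * (49 * q ^ 24) := Nat.mul_le_mul_right _ h6
      _ = q ^ 12 * (7 * q) * q ^ 3 * (7 * q ^ 4) * q ^ 6 := by ring
      _ ≤ _ := h5
      _ = 64 * ord q := by unfold ord; ring
  omega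

theorem ord_eq (p : ℕ) : ord (p + 1) = p ^ 2 * ((p + 1) ^ 12 * ((p + 2) ^ 2 * (p ^ 2 + 2 * p + 2) ^ 2 * (p ^ 2 + p + 1)) *
    (p ^ 4 + 4 * p ^ 3 + 5 * p ^ 2 + 2 * p + 1)) := by
  unfold ord
  have h1 : (p + 1) ^ 4 - 1 = p * (p + 2) * (p ^ 2 + 2 * p + 2) := by
    have : (p + 1) ^ 4 = p * (p + 2) * (p ^ 2 + 2 * p + 2) + 1 := by ring
    rw [this, Nat.add_sub_cancel]
  rw [h1, Nat.add_sub_cancel]
  ring

theorem lt_of_le_three {n q : ℕ} (hq : 8 ≤ q) (h : n ≤ 3 * q ^ 8) : n ^ 3 < ord q := by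
  have h1 : n ^ 3 ≤ (3 * q ^ 8) ^ 3 := Nat.pow_le_pow_left h 3
  have h2 : (3 * q ^ 8) ^ 3 = 27 * q ^ 24 := by ring
  have h3 := ord_ge hq
  have h4 : 0 < q ^ 24 := pow_pos (by omega) _
  omega

variable {F : Type*} [Field F] {σ : F →+* F} {G : Type u} [Group G] (S : Full σ G) [Finite F] [Finite G]

/-- elements of order `r ∣ q - 1` are conjugate into the torus -/
theorem conj_T {p : ℕ} (hp2 : ¬ 2 ∣ p) (hq : Nat.card F = p + 1) (hG : Nat.card G = ord (p + 1)) {r : ℕ} (hr : r.Prime)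
    (hrp : r ∣ p) {y : G} (hy : orderOf y = r) : ∃ g : G, g * y * g⁻¹ ∈ S.T := by
  have hfact : Fact r.Prime := ⟨hr⟩
  have hr2 : ¬ r ∣ 2 := by
    intro h
    have h1 := (Nat.prime_dvd_prime_iff_eq hr Nat.prime_two).1 h
    exact hp2 (h1 ▸ hrp)
  have hr1 : ¬ r ∣ 1 := fun h => hr.one_lt.ne' (Nat.dvd_one.1 h)
  obtain ⟨P⟩ : Nonempty (Sylow r S.T) := inferInstance
  have hT : Nat.card S.T = p ^ 2 := by rw [card_T, hq, Nat.add_sub_cancel]
  let P' : Subgroup G := (P : Subgroup S.T).map S.T.subtype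
  have hcP : Nat.card P' = Nat.card (P : Subgroup S.T) :=
    (Nat.card_congr (Subgroup.equivMapOfInjective (P : Subgroup S.T) S.T.subtype (Subgroup.subtype_injective _)).toEquiv).symm
  have hP'p : IsPGroup r P' := P.2.map _
  have hi : ¬ r ∣ P'.index := by
    intro h
    have h1 := P'.card_mul_index
    have h2 := (P : Subgroup S.T).card_mul_index
    obtain ⟨M, hM⟩ : ∃ M, M = (p + 1) ^ 12 * ((p + 2) ^ 2 * (p ^ 2 + 2 * p + 2) ^ 2 * (p ^ 2 + p + 1)) *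
      (p ^ 4 + 4 * p ^ 3 + 5 * p ^ 2 + 2 * p + 1) := ⟨_, rfl⟩
    rw [hcP, hG, ord_eq, ← hM, ← hT, ← h2, mul_assoc] at h1
    have h3 := Nat.eq_of_mul_eq_mul_left Nat.card_pos h1
    rw [h3] at h
    have hd : ∀ a : ℕ, r ∣ p * a := fun a => Dvd.dvd.mul_right hrp a
    rcases (Nat.Prime.dvd_mul hr).1 h with h | h
    · exact P.not_dvd_index h
    rw [hM] at h
    rcases (Nat.Prime.dvd_mul hr).1 h with h | h
    · rcases (Nat.Prime.dvd_mul hr).1 h with h | h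
      · have h4 := hr.dvd_of_dvd_pow h
        exact hr1 ((Nat.dvd_add_right hrp).1 h4)
      · rcases (Nat.Prime.dvd_mul hr).1 h with h | h
        · rcases (Nat.Prime.dvd_mul hr).1 h with h | h
          · exact hr2 ((Nat.dvd_add_right hrp).1 (hr.dvd_of_dvd_pow h))
          · have h4 := hr.dvd_of_dvd_pow h
            have e : p ^ 2 + 2 * p + 2 = p * (p + 2) + 2 := by ring
            rw [e] at h4
            exact hr2 ((Nat.dvd_add_right (hd _)).1 h4)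
        · have e : p ^ 2 + p + 1 = p * (p + 1) + 1 := by ring
          rw [e] at h
          exact hr1 ((Nat.dvd_add_right (hd _)).1 h)
    · have e : p ^ 4 + 4 * p ^ 3 + 5 * p ^ 2 + 2 * p + 1 = p * (p ^ 3 + 4 * p ^ 2 + 5 * p + 2) + 1 := by ring
      rw [e] at h
      exact hr1 ((Nat.dvd_add_right (hd _)).1 h)
  let Q : Sylow r G := hP'p.toSylow hi
  have hy' : IsPGroup r (Subgroup.zpowers y) := by
    have : Nat.card (Subgroup.zpowers y) = r ^ 1 := by rw [Nat.card_zpowers, hy, pow_one]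
    exact IsPGroup.of_card this
  obtain ⟨Q', hQ'⟩ := hy'.exists_le_sylow
  obtain ⟨g, hg⟩ := MulAction.exists_smul_eq G Q' Q
  refine ⟨g, ?_⟩
  have h9 : g * y * g⁻¹ ∈ (Q : Subgroup G) := by
    rw [← hg]
    show g * y * g⁻¹ ∈ ((MulAut.conj g • (Q' : Subgroup G) : Subgroup G))
    exact Subgroup.smul_mem_pointwise_smul _ (MulAut.conj g) _ (hQ' (Subgroup.mem_zpowers _))
  obtain ⟨t, -, ht⟩ := h9
  rw [← ht]
  exact t.2

/-- conjugate subgroups -/
theorem conj_le {A H : Subgroup G} {g y : G} (hA : ∀ x ∈ A, x * y = y * x)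
    (hH : Subgroup.centralizer ({g * y * g⁻¹} : Set G) ≤ H) : A.map (MulAut.conj g).toMonoidHom ≤ H := by
  rintro _ ⟨x, hx, rfl⟩
  apply hH
  rw [Subgroup.mem_centralizer_singleton_iff]
  show g * x * g⁻¹ * (g * y * g⁻¹) = g * y * g⁻¹ * (g * x * g⁻¹)
  calc g * x * g⁻¹ * (g * y * g⁻¹) = g * (x * y) * g⁻¹ := by group
    _ = g * (y * x) * g⁻¹ := by rw [hA x hx]
    _ = _ := by group

theorem card_conj (A : Subgroup G) (g : G) : Nat.card (A.map (MulAut.conj g).toMonoidHom) = Nat.card A :=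
  Nat.card_congr (Subgroup.equivMapOfInjective A _ (MulAut.conj g).injective).symm.toEquiv

theorem comm_conj {A : Subgroup G} (hc : ∀ x ∈ A, ∀ y ∈ A, x * y = y * x) (g : G) :
    ∀ x ∈ A.map (MulAut.conj g).toMonoidHom, ∀ y ∈ A.map (MulAut.conj g).toMonoidHom, x * y = y * x := by
  rintro _ ⟨x, hx, rfl⟩ _ ⟨y, hy, rfl⟩
  rw [← map_mul, ← map_mul, hc x hx y hy]

/-- elements of `Z_4 Z_6` are conjugate to central elements of root groups -/
theorem W46_cj {x : G} (hx : x ∈ S.W46) (hx1 : x ≠ 1) : ∃ u : F, u ≠ 0 ∧ Cj x (S.e 2 0 u) := by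
  obtain ⟨u, v, rfl⟩ := hx
  by_cases hv : v = 0
  · subst hv
    rw [S.e_zero, mul_one] at hx1 ⊢
    refine ⟨u, ?_, Cj.refl _⟩
    rintro rfl
    exact hx1 (S.e_zero 2)
  · refine ⟨v, hv, ?_⟩
    -- `o 0 t * e 3 0 v = e 3 0 v * o 0 t * e 2 0 (t v)`
    have h1 : Cj (S.e 2 0 u * S.e 3 0 v) (S.e 3 0 v) := by
      refine Cj.of_mul (k := S.o 0 (u * v⁻¹)) ?_
      have r : S.o 0 (u * v⁻¹) * S.e 3 0 v = S.e 3 0 v * S.o 0 (u * v⁻¹) * S.e 1 0 (σ (u * v⁻¹) * 0) *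
        S.o 1 (u * v⁻¹ * σ 0) * S.e 2 0 (u * v⁻¹ * 0 * σ 0 + u * v⁻¹ * v) := S.o_e3 0 (u * v⁻¹) 0 v
      rw [map_zero, mul_zero, mul_zero, mul_zero, zero_add, S.e_zero, S.o_zero, mul_one, mul_one,
        inv_mul_cancel_right₀ hv] at r
      have hz : ∀ y ∈ S.PL, y * S.e 2 0 u = S.e 2 0 u * y := fun y hy => e2_comm S hy u
      have m1 : S.o 0 (u * v⁻¹) ∈ S.PL := mem_J (S.mX1 _) (by norm_num) (by norm_num)
      have m6 : S.e 3 0 v ∈ S.PL := mem_J (S.mX6 0 v) (by norm_num) (by norm_num)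
      calc S.o 0 (u * v⁻¹) * (S.e 2 0 u * S.e 3 0 v) = (S.o 0 (u * v⁻¹) * S.e 2 0 u) * S.e 3 0 v := by group
        _ = S.e 2 0 u * (S.o 0 (u * v⁻¹) * S.e 3 0 v) := by rw [hz _ m1]; group
        _ = S.e 2 0 u * (S.e 3 0 v * S.o 0 (u * v⁻¹)) * S.e 2 0 u := by rw [r]; group
        _ = (S.e 3 0 v * S.o 0 (u * v⁻¹)) * (S.e 2 0 u * S.e 2 0 u) := by rw [← hz _ (mul_mem m6 m1)]; group
        _ = _ := by rw [z_add, char2 S, S.e_zero, mul_one]
    refine h1.trans ⟨S.n1, ?_⟩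
    have := S.n1_e 3 0 v
    rwa [show (5 : ZMod 8) - 3 = 2 by decide] at this

/-- **abelian subgroups of a group of type `²F₄`** -/
theorem ab_full (hR : S.R.p = 2) {m : ℕ} (hm : 1 ≤ m) (hq : Nat.card F = 2 ^ (2 * m + 1))
    (hG : Nat.card G = ord (Nat.card F)) (h12 : ∀ (x : G) (r : ℕ), r.Prime → orderOf x = r →
      r ∣ Nat.card F ^ 4 - Nat.card F ^ 2 + 1 → Nat.card (Subgroup.centralizer ({x} : Set G)) ≤ Nat.card F ^ 4)
    (A : Subgroup G) (hc : ∀ x ∈ A, ∀ y ∈ A, x * y = y * x) : Nat.card A ^ 3 < Nat.card G := by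
  have hq8 : 8 ≤ Nat.card F := by
    rw [hq]
    calc 8 = 2 ^ 3 := rfl
      _ ≤ 2 ^ (2 * m + 1) := Nat.pow_le_pow_right (by norm_num) (by omega)
  have hFne : ∃ c : Fˣ, c ≠ 1 := by
    have h3 : 1 < Nat.card Fˣ := by
      rw [Nat.card_units]; omega
    have : Nontrivial Fˣ := Finite.one_lt_card_iff_nontrivial.1 h3
    exact exists_ne 1
  obtain ⟨p, hp⟩ : ∃ p, Nat.card F = p + 1 := ⟨Nat.card F - 1, by omega⟩
  have hpo : ¬ 2 ∣ p := by
    intro h
    have h1 : 2 ∣ Nat.card F := by rw [hq]; exact dvd_pow_self 2 (by omega)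
    rw [hp] at h1
    omega
  rw [hG]
  have hpp : Nat.card F - 1 = p := by omega
  -- case 1
  by_cases h1 : (Nat.card A).Coprime (Nat.card F - 1)
  swap
  · obtain ⟨r, hr, hr1, hr2⟩ := Nat.Prime.not_coprime_iff_dvd.1 h1
    have hfact : Fact r.Prime := ⟨hr⟩
    obtain ⟨y, hy⟩ := exists_prime_orderOf_dvd_card' r hr1
    have hy' : orderOf (y : G) = r := by rw [Subgroup.orderOf_coe]; exact hy
    obtain ⟨g, hg⟩ := conj_T S hpo hp (by rw [hG, hp]) hr (by rwa [hpp] at hr2) hy'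
    have hr2' : r ≠ 2 := by
      rintro rfl
      exact hpo (by rwa [hpp] at hr2)
    have hgr : (g * y * g⁻¹) ^ r = 1 := by
      rw [conj_pow, ← hy', pow_orderOf_eq_one, mul_one, mul_inv_cancel]
    have hg1 : g * (y : G) * g⁻¹ ≠ 1 := by
      intro h
      have h2 : (y : G) = 1 := by
        have : g * (y : G) * g⁻¹ = g * 1 * g⁻¹ := by rw [h]; group
        exact mul_left_cancel (mul_right_cancel this)
      rw [h2, orderOf_one] at hy'
      exact hr.one_lt.ne hy'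
    have h2 := card_cent_T_le S hR hg hg1 hr hr2' hgr
    have h3 : Nat.card A ≤ Nat.card (Subgroup.centralizer ({g * (y : G) * g⁻¹} : Set G)) := by
      rw [← card_conj A g]
      exact Subgroup.card_le_of_le (conj_le (fun x hx => hc x hx y y.2) le_rfl)
    refine lt_of_le_three hq8 ((h3.trans h2).trans ?_)
    have h4 : Nat.card F - 1 ≤ Nat.card F := Nat.sub_le _ _
    calc 16 * Nat.card F ^ 4 * (Nat.card F - 1) ^ 2 ≤ 16 * Nat.card F ^ 4 * Nat.card F ^ 2 := by gcongr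
      _ = 16 * Nat.card F ^ 6 := by ring
      _ ≤ Nat.card F ^ 2 * Nat.card F ^ 6 := Nat.mul_le_mul_right _ (by nlinarith)
      _ = Nat.card F ^ 8 := by ring
      _ ≤ 3 * Nat.card F ^ 8 := by omega
  -- case 2
  by_cases h2 : 2 ∣ Nat.card A
  · by_cases hz : ∃ a ∈ A, ∃ u : F, u ≠ 0 ∧ Cj a (S.e 2 0 u)
    · obtain ⟨a, ha, u, hu, k, hk⟩ := hz
      have hzc : S.e 2 0 u ∈ S.Zc 2 := ⟨u, rfl⟩
      have hz1 : S.e 2 0 u ≠ 1 := fun h => hu (S.e_eq_one h).2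
      have hle : A.map (MulAut.conj k).toMonoidHom ≤ S.PL := by
        refine conj_le (y := a) (fun x hx => hc x hx a ha) ?_
        rw [hk, S.centralizer_z hzc hz1]
      have h3 := card_PL_cube S (k := 2 * m + 1) (by omega) hq hle (comm_conj hc k)
      rw [card_conj] at h3
      refine h3.trans_le ?_
      have h4 : Nat.card F - 1 ≤ Nat.card F := Nat.sub_le _ _
      have h5 : Nat.card F ^ 2 + 1 ≤ 2 * Nat.card F ^ 2 := by nlinarith
      calc Nat.card F ^ 20 * (Nat.card F - 1) ^ 2 * (Nat.card F ^ 2 + 1)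
          ≤ Nat.card F ^ 20 * Nat.card F ^ 2 * (2 * Nat.card F ^ 2) := by gcongr
        _ = 2 * Nat.card F ^ 24 := by ring
        _ ≤ 49 * Nat.card F ^ 24 := by omega
        _ ≤ _ := ord_ge hq8
    · push Not at hz
      have hfact : Fact (Nat.Prime 2) := ⟨Nat.prime_two⟩
      obtain ⟨a, ha⟩ := exists_prime_orderOf_dvd_card' 2 h2
      have ha2 : (a : G) * a = 1 := by
        have := pow_orderOf_eq_one a
        rw [ha, pow_two] at this
        exact congrArg Subtype.val this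
      have ha1 : (a : G) ≠ 1 := by
        intro h
        have : a = 1 := Subtype.ext h
        rw [this, orderOf_one] at ha
        omega
      rcases SylU.classes S hFne hR ha2 ha1 with ⟨u, hu, hcj⟩ | ⟨t, ht, hcj⟩
      · exfalso
        refine hz a a.2 u hu (hcj.trans ⟨S.rot ^ (2 : ℤ), ?_⟩)
        rw [S.rotk_e]; rfl
      · obtain ⟨k, hk⟩ : Cj (a : G) (S.o 2 t) := hcj.trans ⟨S.rot ^ (2 : ℤ), by rw [S.rotk_o]; rfl⟩
        have hle : A.map (MulAut.conj k).toMonoidHom ≤ S.HO := by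
          refine conj_le (y := a) (fun x hx => hc x hx a a.2) ?_
          rw [hk, S.centralizer_o ht]
        have h3 := card_HO_le S (k := 2 * m + 1) (by omega) hq hle (comm_conj hc k) (by rw [card_conj]; exact h1) (by
          rintro _ ⟨x, hx, rfl⟩ hW
          by_contra hne
          obtain ⟨u, hu, hcj'⟩ := W46_cj S hW hne
          refine hz x hx u hu (Cj.trans ⟨k, rfl⟩ hcj'))
        rw [card_conj] at h3
        refine lt_of_le_three hq8 (h3.trans ?_)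
        have h4 : Nat.card F + 1 ≤ 3 * Nat.card F := by omega
        calc Nat.card F ^ 7 * (Nat.card F + 1) ≤ Nat.card F ^ 7 * (3 * Nat.card F) := Nat.mul_le_mul_left _ h4
          _ = _ := by ring
  -- case 3
  by_cases h3 : (Nat.card A).Coprime (Nat.card F ^ 4 - Nat.card F ^ 2 + 1)
  swap
  · obtain ⟨r, hr, hr1, hr2⟩ := Nat.Prime.not_coprime_iff_dvd.1 h3
    have hfact : Fact r.Prime := ⟨hr⟩
    obtain ⟨y, hy⟩ := exists_prime_orderOf_dvd_card' r hr1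
    have hy' : orderOf (y : G) = r := by rw [Subgroup.orderOf_coe]; exact hy
    have h4 := h12 y r hr hy' hr2
    have h5 : A ≤ Subgroup.centralizer ({(y : G)} : Set G) := by
      intro x hx
      rw [Subgroup.mem_centralizer_singleton_iff]
      exact hc x hx y y.2
    have h6 := (Subgroup.card_le_of_le h5).trans h4
    refine lt_of_le_three hq8 (h6.trans ?_)
    have h7 : Nat.card F ^ 4 ≤ Nat.card F ^ 8 := Nat.pow_le_pow_right (by omega) (by norm_num)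
    omega
  · have e12 : Nat.card F ^ 4 - Nat.card F ^ 2 + 1 = p ^ 4 + 4 * p ^ 3 + 5 * p ^ 2 + 2 * p + 1 := by
      rw [hp]
      have : (p + 1) ^ 4 = (p ^ 4 + 4 * p ^ 3 + 5 * p ^ 2 + 2 * p) + (p + 1) ^ 2 := by ring
      rw [this, Nat.add_sub_cancel]
    rw [e12] at h3
    rw [hpp] at h1
    have hdvd : Nat.card A ∣ Nat.card G := Subgroup.card_subgroup_dvd_card A
    rw [hG, hp, ord_eq] at hdvd
    have h4 : (Nat.card A).Coprime ((p + 1) ^ 12) := by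
      rw [← hp, hq, ← pow_mul]
      exact Nat.Coprime.pow_right _ ((Nat.Prime.coprime_iff_not_dvd Nat.prime_two).2 h2).symm
    have h5 := (h1.pow_right 2).dvd_of_dvd_mul_left hdvd
    have h6 := h3.dvd_of_dvd_mul_right h5
    have h7 := h4.dvd_of_dvd_mul_left h6
    have h8 := Nat.le_of_dvd (by positivity) h7
    refine lt_of_le_three hq8 (h8.trans ?_)
    have hp7 : 7 ≤ p := by omega
    rw [hp]
    have a1 : (p + 2) ^ 2 ≤ 2 * (p + 1) ^ 2 := by nlinarith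
    have a2 : 2 * (p ^ 2 + 2 * p + 2) ^ 2 ≤ 3 * (p + 1) ^ 4 := by
      have e1 : p ^ 2 + 2 * p + 2 = (p + 1) ^ 2 + 1 := by ring
      have e2 : (p + 1) ^ 4 = ((p + 1) ^ 2) ^ 2 := by ring
      rw [e1, e2]
      have e3 : 64 ≤ (p + 1) ^ 2 := by nlinarith
      nlinarith
    have a3 : p ^ 2 + p + 1 ≤ (p + 1) ^ 2 := by nlinarith
    have h9 : 2 * ((p + 2) ^ 2 * (p ^ 2 + 2 * p + 2) ^ 2 * (p ^ 2 + p + 1)) ≤ 2 * (3 * (p + 1) ^ 8) := by
      calc 2 * ((p + 2) ^ 2 * (p ^ 2 + 2 * p + 2) ^ 2 * (p ^ 2 + p + 1))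
          = (p + 2) ^ 2 * (2 * (p ^ 2 + 2 * p + 2) ^ 2) * (p ^ 2 + p + 1) := by ring
        _ ≤ (2 * (p + 1) ^ 2) * (3 * (p + 1) ^ 4) * (p + 1) ^ 2 := by gcongr
        _ = _ := by ring
    omega

end Cfsg.Agent.H991.TwFAb
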