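import Cfsg.Agent.H991.TwFAb.Gen
import Cfsg.Agent.H392.TwFFour.Card

/-!
# Abelian subgroups of `Q = O_2(C(z))` in `²F₄(q)` have order at most `q⁶` (helper991, for S2501)
-/

set_option autoImplicit false
set_option linter.unusedSectionVars false

namespace Cfsg.Agent.H991.TwFAb

open Cfsg.Agent.SplitTwo Cfsg.Agent.SplitTwo.ZS Cfsg.Agent.TitsThree.RankTwoZ Cfsg.Agent.KFacts.TwF4
open Cfsg.Agent.KFacts.TwF4.Arc Cfsg.Agent.KFacts.TwF4.Irr Cfsg.Agent.H392.TwFFour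

universe u

variable {F : Type*} [Field F] {σ : F →+* F} {G : Type u} [Group G] (S : Full σ G)

/-- the commutators of `g` with the generators of `Q2 / Z_4` -/
def CV (g : G) (v : Fin 4 → F) : Prop :=
  (∀ s, g * S.e 3 0 s = S.e 3 0 s * g * S.e 2 0 (v 0 * s)) ∧ (∀ s, g * S.o 2 s = S.o 2 s * g * S.e 2 0 (v 1 * s)) ∧
    (∀ s, g * S.o 1 s = S.o 1 s * g * S.e 2 0 (v 2 * s)) ∧ ∀ s, g * S.e 1 0 s = S.e 1 0 s * g * S.e 2 0 (v 3 * s)

theorem e2_comm {g : G} (hg : g ∈ S.PL) (u : F) : g * S.e 2 0 u = S.e 2 0 u * g := S.comm_PL hg ⟨u, rfl⟩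

theorem CV_mul {g h : G} {v w : Fin 4 → F} (hh : h ∈ S.PL) (h1 : CV S g v) (h2 : CV S h w) : CV S (g * h) (v + w) := by
  have key : ∀ (y : G) (a b : F), g * y = y * g * S.e 2 0 a → h * y = y * h * S.e 2 0 b →
      g * h * y = y * (g * h) * S.e 2 0 (a + b) := by
    intro y a b ha hb
    calc g * h * y = g * (h * y) := by group
      _ = (g * y) * h * S.e 2 0 b := by rw [hb]; group
      _ = y * g * (S.e 2 0 a * h) * S.e 2 0 b := by rw [ha]; group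
      _ = y * (g * h) * (S.e 2 0 a * S.e 2 0 b) := by rw [← e2_comm S hh]; group
      _ = _ := by rw [z_add]
  obtain ⟨a0, a1, a2, a3⟩ := h1
  obtain ⟨b0, b1, b2, b3⟩ := h2
  refine ⟨fun s => ?_, fun s => ?_, fun s => ?_, fun s => ?_⟩
  · rw [Pi.add_apply, add_mul]; exact key _ _ _ (a0 s) (b0 s)
  · rw [Pi.add_apply, add_mul]; exact key _ _ _ (a1 s) (b1 s)
  · rw [Pi.add_apply, add_mul]; exact key _ _ _ (a2 s) (b2 s)
  · rw [Pi.add_apply, add_mul]; exact key _ _ _ (a3 s) (b3 s)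

theorem CV_one : CV S 1 0 := by
  refine ⟨fun s => ?_, fun s => ?_, fun s => ?_, fun s => ?_⟩ <;>
    rw [Pi.zero_apply, zero_mul, S.e_zero, one_mul, mul_one, mul_one]

/-- elements of the root groups -/
theorem CV_X {k : ℤ} (h1 : 1 ≤ k) (h2 : k ≤ 7) {g : G} (hg : g ∈ S.XZ k) : ∃ v, CV S g v := by
  have hc : ∀ {x y : G}, x * y = y * x → x * y = y * x * S.e 2 0 (0 * 0) := fun h => by
    rw [mul_zero, S.e_zero, mul_one]; exact h
  have c0 : ∀ {x y : G} (s : F), x * y = y * x → x * y = y * x * S.e 2 0 (0 * s) := fun s h => by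
    rw [zero_mul, S.e_zero, mul_one]; exact h
  interval_cases k
  · obtain ⟨t, rfl⟩ := S.X1 hg
    refine ⟨![t, 0, 0, 0], fun s => ?_, fun s => c0 s (S.o_o2 0 t s), fun s => c0 s (S.o_o1 0 t s),
      fun s => c0 s (S.o_e1 0 t 0 s)⟩
    have r : S.o 0 t * S.e 3 0 s = S.e 3 0 s * S.o 0 t * S.e 1 0 (σ t * 0) * S.o 1 (t * σ 0) *
      S.e 2 0 (t * 0 * σ 0 + t * s) := S.o_e3 0 t 0 s
    rw [map_zero, mul_zero, mul_zero, mul_zero, zero_add, S.e_zero, S.o_zero, mul_one, mul_one] at r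
    exact r
  · obtain ⟨p, u, rfl⟩ := S.X2 hg
    refine ⟨![0, p, 0, 0], fun s => c0 s (S.e_e2 1 p u 0 s), fun s => S.e_o1 1 p u s, fun s => c0 s (S.e_o0 1 p u s),
      fun s => c0 s ?_⟩
    rw [S.e_mul, S.e_mul, map_zero, mul_zero, zero_mul, add_comm p, add_comm u]
  · obtain ⟨t, rfl⟩ := S.X3 hg
    refine ⟨0, fun s => c0 s ?_, fun s => c0 s (S.o_o1 1 t s), fun s => c0 s ?_, fun s => c0 s ?_⟩
    · have r : S.o 1 t * S.e 3 0 s = S.e 3 0 s * S.o 1 t * S.e 2 0 (t * 0) := S.o_e2 1 t 0 s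
      rwa [mul_zero, S.e_zero, mul_one] at r
    · rw [S.o_add, S.o_add, add_comm]
    · exact (S.e_o0 1 0 s t).symm
  · obtain ⟨p, u, rfl⟩ := S.X4 hg
    refine ⟨0, fun s => c0 s ?_, fun s => c0 s (S.e_o0 2 p u s), fun s => c0 s (S.o_e1 1 s p u).symm, fun s => c0 s ?_⟩
    · have r : S.e 2 p u * S.e 3 0 s = S.e 3 0 s * S.e 2 p u * S.o 2 (p * 0) := S.e_e1 2 p u 0 s
      rwa [mul_zero, S.o_zero, mul_one] at r
    · have r : S.e 1 0 s * S.e 2 p u = S.e 2 p u * S.e 1 0 s * S.o 1 (0 * p) := S.e_e1 1 0 s p u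
      rw [zero_mul, S.o_zero, mul_one] at r
      exact r.symm
  · obtain ⟨t, rfl⟩ := S.X5 hg
    refine ⟨0, fun s => c0 s (S.o_e1 2 t 0 s), fun s => c0 s ?_, fun s => c0 s (S.o_o1 1 s t).symm, fun s => c0 s ?_⟩
    · rw [S.o_add, S.o_add, add_comm]
    · have r : S.e 1 0 s * S.o 2 t = S.o 2 t * S.e 1 0 s * S.e 2 0 (0 * t) := S.e_o1 1 0 s t
      rw [zero_mul, S.e_zero, mul_one] at r
      exact r.symm
  · obtain ⟨p, u, rfl⟩ := S.X6 hg
    refine ⟨![0, 0, p, 0], fun s => c0 s ?_, fun s => c0 s (S.o_e1 2 s p u).symm, fun s => ?_,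
      fun s => c0 s (S.e_e2 1 0 s p u).symm⟩
    · rw [S.e_mul, S.e_mul, map_zero, mul_zero, zero_mul, add_comm p, add_comm u]
    · have r : S.o 1 s * S.e 3 p u = S.e 3 p u * S.o 1 s * S.e 2 0 (s * p) := S.o_e2 1 s p u
      show S.e 3 p u * S.o 1 s = S.o 1 s * S.e 3 p u * S.e 2 0 (p * s)
      rw [r, mul_assoc, z_add, mul_comm s p, char2 S, S.e_zero, mul_one]
  · obtain ⟨t, rfl⟩ := S.X7 hg
    refine ⟨![0, 0, 0, t], fun s => c0 s (S.e_o0 3 0 s t).symm, fun s => c0 s (S.o_o1 2 s t).symm,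
      fun s => c0 s (S.o_o2 1 s t).symm, fun s => ?_⟩
    have r : S.e 1 0 s * S.o 3 t = S.o 3 t * S.e 1 0 s * S.e 2 0 (0 * σ 0 * t + s * t) * S.o 2 (σ 0 * t) *
      S.e 3 0 (0 * σ t) := S.e_o2 1 0 s t
    rw [map_zero, zero_mul, zero_mul, zero_mul, zero_add, S.o_zero, S.e_zero, mul_one, mul_one] at r
    show S.o 3 t * S.e 1 0 s = S.e 1 0 s * S.o 3 t * S.e 2 0 (t * s)
    rw [r, mul_assoc, z_add, mul_comm s t, char2 S, S.e_zero, mul_one]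

theorem CV_inv {g : G} {v : Fin 4 → F} (hg : g ∈ S.PL) (h : CV S g v) : CV S g⁻¹ v := by
  have key : ∀ (y : G) (a : F), g * y = y * g * S.e 2 0 a → g⁻¹ * y = y * g⁻¹ * S.e 2 0 a := by
    intro y a ha
    have h1 : g⁻¹ * (g * y) * g⁻¹ = g⁻¹ * (y * g * S.e 2 0 a) * g⁻¹ := by rw [ha]
    have h2 : y * g⁻¹ = g⁻¹ * y * S.e 2 0 a := by
      calc y * g⁻¹ = g⁻¹ * (g * y) * g⁻¹ := by group
        _ = g⁻¹ * (y * g * S.e 2 0 a) * g⁻¹ := h1
        _ = g⁻¹ * y * (g * S.e 2 0 a) * g⁻¹ := by group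
        _ = g⁻¹ * y * S.e 2 0 a := by rw [e2_comm S hg]; group
    rw [h2, mul_assoc, z_add, char2 S, S.e_zero, mul_one]
  obtain ⟨a0, a1, a2, a3⟩ := h
  exact ⟨fun s => key _ _ (a0 s), fun s => key _ _ (a1 s), fun s => key _ _ (a2 s), fun s => key _ _ (a3 s)⟩

theorem Q_le_PL : S.Q ≤ S.PL := J_mono (by norm_num) (by norm_num)

theorem exists_CV {g : G} (hg : g ∈ S.Q) : ∃ v, CV S g v := by
  let K : Subgroup G :=
    { carrier := {g | g ∈ S.PL ∧ ∃ v, CV S g v}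
      one_mem' := ⟨one_mem _, 0, CV_one S⟩
      mul_mem' := by
        rintro a b ⟨ha, v, hv⟩ ⟨hb, w, hw⟩
        exact ⟨mul_mem ha hb, v + w, CV_mul S hb hv hw⟩
      inv_mem' := by
        rintro a ⟨ha, v, hv⟩
        exact ⟨inv_mem ha, v, CV_inv S ha hv⟩ }
  have : S.Q ≤ K := J_le fun k h1 h2 x hx => ⟨mem_J hx (by omega) (by omega), CV_X S h1 h2 hx⟩
  exact (this hg).2

/-- the commutator of `g` with an element of `Q2` -/
theorem CV_q2 {g : G} {v : Fin 4 → F} (hg : g ∈ S.PL) (h : CV S g v) (u s z t w : F) :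
    g * q2 S u s z t w = q2 S u s z t w * g * S.e 2 0 (v 0 * w + v 1 * t + v 2 * s + v 3 * u) := by
  obtain ⟨a0, a1, a2, a3⟩ := h
  have hc : ∀ a : F, ∀ y ∈ S.PL, y * S.e 2 0 a = S.e 2 0 a * y := fun a y hy => e2_comm S hy a
  have m1 : S.o 1 s ∈ S.PL := mem_J (S.mX3 s) (by norm_num) (by norm_num)
  have m2 : S.e 2 0 z ∈ S.PL := mem_J (S.mX4 0 z) (by norm_num) (by norm_num)
  have m3 : S.o 2 t ∈ S.PL := mem_J (S.mX5 t) (by norm_num) (by norm_num)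
  have m4 : S.e 3 0 w ∈ S.PL := mem_J (S.mX6 0 w) (by norm_num) (by norm_num)
  unfold q2
  calc g * (S.e 1 0 u * S.o 1 s * S.e 2 0 z * S.o 2 t * S.e 3 0 w)
      = (g * S.e 1 0 u) * S.o 1 s * S.e 2 0 z * S.o 2 t * S.e 3 0 w := by group
    _ = S.e 1 0 u * g * (S.e 2 0 (v 3 * u) * (S.o 1 s * S.e 2 0 z * S.o 2 t * S.e 3 0 w)) := by rw [a3]; group
    _ = S.e 1 0 u * (g * S.o 1 s) * S.e 2 0 z * S.o 2 t * S.e 3 0 w * S.e 2 0 (v 3 * u) := by
      rw [← hc _ _ (mul_mem (mul_mem (mul_mem m1 m2) m3) m4)]; group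
    _ = S.e 1 0 u * S.o 1 s * g * (S.e 2 0 (v 2 * s) * (S.e 2 0 z * S.o 2 t * S.e 3 0 w)) * S.e 2 0 (v 3 * u) := by
      rw [a2]; group
    _ = S.e 1 0 u * S.o 1 s * (g * S.e 2 0 z) * S.o 2 t * S.e 3 0 w * (S.e 2 0 (v 2 * s) * S.e 2 0 (v 3 * u)) := by
      rw [← hc _ _ (mul_mem (mul_mem m2 m3) m4)]; group
    _ = S.e 1 0 u * S.o 1 s * S.e 2 0 z * (g * S.o 2 t) * S.e 3 0 w * (S.e 2 0 (v 2 * s) * S.e 2 0 (v 3 * u)) := by
      rw [hc _ _ hg]; group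
    _ = S.e 1 0 u * S.o 1 s * S.e 2 0 z * S.o 2 t * g * (S.e 2 0 (v 1 * t) * S.e 3 0 w) *
        (S.e 2 0 (v 2 * s) * S.e 2 0 (v 3 * u)) := by rw [a1]; group
    _ = S.e 1 0 u * S.o 1 s * S.e 2 0 z * S.o 2 t * (g * S.e 3 0 w) *
        (S.e 2 0 (v 1 * t) * (S.e 2 0 (v 2 * s) * S.e 2 0 (v 3 * u))) := by rw [← hc _ _ m4]; group
    _ = S.e 1 0 u * S.o 1 s * S.e 2 0 z * S.o 2 t * S.e 3 0 w * g *
        (S.e 2 0 (v 0 * w) * (S.e 2 0 (v 1 * t) * (S.e 2 0 (v 2 * s) * S.e 2 0 (v 3 * u)))) := by rw [a0]; group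
    _ = _ := by rw [z_add, z_add, z_add]; congr 2; ring

variable [Finite F] [Finite G]

/-- **abelian subgroups of `Q`** -/
theorem card_le_Q {A : Subgroup G} (hA : A ≤ S.Q) (hc : ∀ x ∈ A, ∀ y ∈ A, x * y = y * x) :
    Nat.card A ≤ Nat.card F ^ 6 := by
  classical
  -- the vector of an element
  let f : G → (Fin 4 → F) := fun g => if h : ∃ v, CV S g v then h.choose else 0
  have hf : ∀ g ∈ S.Q, CV S g (f g) := by
    intro g hg
    have h := exists_CV S hg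
    have e : f g = h.choose := dif_pos h
    rw [e]; exact h.choose_spec
  let X : Set (Fin 4 → F) := f '' A
  -- the coordinates of an element of `Q2`
  let c : G → (Fin 4 → F) := fun y => if h : ∃ v : Fin 4 → F, ∃ z, q2 S (v 3) (v 2) z (v 1) (v 0) = y then h.choose else 0
  have hcy : ∀ y ∈ S.Q2, ∃ z, q2 S (c y 3) (c y 2) z (c y 1) (c y 0) = y := by
    intro y hy
    obtain ⟨u, s, z, t, w, h⟩ := (mem_Q2 S).1 hy
    have h' : ∃ v : Fin 4 → F, ∃ z, q2 S (v 3) (v 2) z (v 1) (v 0) = y := ⟨![w, t, s, u], z, h⟩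
    have e : c y = h'.choose := dif_pos h'
    rw [e]; exact h'.choose_spec
  let Y : Set (Fin 4 → F) := c '' (A ⊓ S.Q2 : Subgroup G)
  have hXY : Nat.card X * Nat.card Y ≤ Nat.card F ^ 4 := by
    refine orth_card X Y ?_
    rintro _ ⟨g, hg, rfl⟩ _ ⟨y, hy, rfl⟩
    obtain ⟨z, hz⟩ := hcy y hy.2
    have h1 := CV_q2 S (Q_le_PL S (hA hg)) (hf g (hA hg)) (c y 3) (c y 2) z (c y 1) (c y 0)
    rw [hz, hc g hg y hy.1] at h1
    have h2 : S.e 2 0 (f g 0 * c y 0 + f g 1 * c y 1 + f g 2 * c y 2 + f g 3 * c y 3) = 1 := by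
      exact (mul_eq_left.1 h1.symm)
    have h3 := (S.e_eq_one h2).2
    rw [← h3]
    simp only [dotProduct, Fin.sum_univ_four]
  have hQ12 : S.Q2 ≤ S.Q1 := le_sup_right
  -- `A / (A ∩ Q1)`
  have h1 : Nat.card A ≤ Nat.card X * Nat.card (A ⊓ S.Q1 : Subgroup G) := by
    refine card_le_of_fun f X (fun a ha => ⟨a, ha, rfl⟩) ?_
    intro a ha b hb hab
    have hab' : CV S (a⁻¹ * b) 0 := by
      have e1 := CV_mul S (Q_le_PL S (hA hb)) (CV_inv S (Q_le_PL S (hA ha)) (hf a (hA ha))) (hf b (hA hb))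
      have e2 : f a + f b = 0 := by
        rw [hab]; funext i; exact char2 S _
      rwa [e2] at e1
    have hmem : a⁻¹ * b ∈ S.PL := Q_le_PL S (mul_mem (inv_mem (hA ha)) (hA hb))
    rw [← S.centralizer_Q2, Subgroup.mem_centralizer_iff]
    intro y hy
    obtain ⟨u, s, z, t, w, rfl⟩ := (mem_Q2 S).1 hy
    have e := CV_q2 S hmem hab' u s z t w
    simp only [Pi.zero_apply, zero_mul, add_zero] at e
    rw [S.e_zero, mul_one] at e
    exact e.symm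
  -- `(A ∩ Q1) / (A ∩ Q2)`
  have h2 : Nat.card (A ⊓ S.Q1 : Subgroup G) ≤ Nat.card F * Nat.card (A ⊓ S.Q2 : Subgroup G) := by
    have hq1 : ∀ x ∈ S.Q1, ∃ p, ∃ y ∈ S.Q2, x = S.e 2 p 0 * y := by
      intro x hx
      obtain ⟨a, ha, b, hb, rfl⟩ := mem_sup_of_norm (A := S.XZ 4) (B := S.Q2) (fun a ha b hb => by
        rw [S.Q1_comm (Subgroup.mem_sup_left ha) hb, mul_inv_cancel_right]; exact hb) hx
      obtain ⟨p, u, rfl⟩ := S.X4 ha
      refine ⟨p, S.e 2 0 u * b, mul_mem (S.q2_3 u) hb, ?_⟩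
      rw [← mul_assoc, S.e_mul]
      congr 2
      · rw [add_zero]
      · rw [map_zero, mul_zero, add_zero, zero_add]
    choose! p hp using hq1
    have h3 := card_le_of_fun (A := A ⊓ S.Q1) (K := S.Q2) p Set.univ (fun _ _ => Set.mem_univ _) (by
      rintro a ⟨-, ha⟩ b ⟨-, hb⟩ hab
      obtain ⟨y, hy, ea⟩ := hp a ha
      obtain ⟨y', hy', eb⟩ := hp b hb
      rw [ea, eb, hab]
      have e : (S.e 2 (p b) 0 * y)⁻¹ * (S.e 2 (p b) 0 * y') = y⁻¹ * y' := by group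
      rw [e]; exact mul_mem (inv_mem hy) hy')
    rw [Nat.card_congr (Equiv.Set.univ F)] at h3
    have e : (A ⊓ S.Q1 ⊓ S.Q2 : Subgroup G) = A ⊓ S.Q2 := by
      rw [inf_assoc, inf_eq_right.2 hQ12]
    rwa [e] at h3
  -- `A ∩ Q2`
  have h3 : Nat.card (A ⊓ S.Q2 : Subgroup G) ≤ Nat.card Y * Nat.card F := by
    have h4 := card_le_of_fun (A := A ⊓ S.Q2) (K := S.Zc 2) c Y (fun a ha => ⟨a, ha, rfl⟩) (by
      rintro a ⟨-, ha⟩ b ⟨-, hb⟩ hab
      obtain ⟨z, hz⟩ := hcy a ha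
      obtain ⟨z', hz'⟩ := hcy b hb
      rw [← hab] at hz'
      rw [← hz, ← hz']
      refine ⟨z + z', ?_⟩
      rw [eq_inv_mul_iff_mul_eq]
      have hc' : ∀ y ∈ S.PL, y * S.e 2 0 (z + z') = S.e 2 0 (z + z') * y := fun y hy => e2_comm S hy _
      have m3 : S.o 2 (c a 1) ∈ S.PL := mem_J (S.mX5 _) (by norm_num) (by norm_num)
      have m4 : S.e 3 0 (c a 0) ∈ S.PL := mem_J (S.mX6 0 _) (by norm_num) (by norm_num)
      unfold q2
      calc S.e 1 0 (c a 3) * S.o 1 (c a 2) * S.e 2 0 z * S.o 2 (c a 1) * S.e 3 0 (c a 0) * S.e 2 0 (z + z')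
          = S.e 1 0 (c a 3) * S.o 1 (c a 2) * S.e 2 0 z * ((S.o 2 (c a 1) * S.e 3 0 (c a 0)) * S.e 2 0 (z + z')) := by group
        _ = S.e 1 0 (c a 3) * S.o 1 (c a 2) * (S.e 2 0 z * S.e 2 0 (z + z')) * S.o 2 (c a 1) * S.e 3 0 (c a 0) := by
          rw [hc' _ (mul_mem m3 m4)]; group
        _ = _ := by
          rw [z_add, ← add_assoc, char2 S, zero_add])
    have h5 : Nat.card (A ⊓ S.Q2 ⊓ S.Zc 2 : Subgroup G) ≤ Nat.card F := by
      rw [← card_Zc S 2]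
      exact Subgroup.card_le_of_le inf_le_right
    exact h4.trans (Nat.mul_le_mul_left _ h5)
  calc Nat.card A ≤ Nat.card X * (Nat.card F * (Nat.card Y * Nat.card F)) :=
        h1.trans (Nat.mul_le_mul_left _ (h2.trans (Nat.mul_le_mul_left _ h3)))
    _ = (Nat.card X * Nat.card Y) * (Nat.card F * Nat.card F) := by ring
    _ ≤ Nat.card F ^ 4 * (Nat.card F * Nat.card F) := Nat.mul_le_mul_right _ hXY
    _ = Nat.card F ^ 6 := by ring

end Cfsg.Agent.H991.TwFAb
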