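import Cfsg.Agent.H991.TwFAb.EvenO

/-!
# The centraliser of an element of prime order of the torus of `²F₄(q)` (helper991, for S2501)

`card_cent_T_le` : `|C(y)| ≤ 16 q⁴ (q - 1)²` for `y ∈ T` of odd prime order.
-/

set_option autoImplicit false
set_option linter.unusedSectionVars false

namespace Cfsg.Agent.H991.TwFAb

open Cfsg.Agent.SplitTwo Cfsg.Agent.SplitTwo.ZS Cfsg.Agent.TitsThree.RankTwoZ Cfsg.Agent.KFacts.TwF4
open Cfsg.Agent.KFacts.TwF4.Arc Cfsg.Agent.KFacts.TwF4.Irr Cfsg.Agent.H392.TwFFour Cfsg.Agent.KFacts.TwF4.Inv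
  Cfsg.Agent.KFacts.TwF4.TorEx Cfsg.Agent.KFacts.TwF4.Perf
open scoped Pointwise

universe u

variable {F : Type*} [Field F] {σ : F →+* F} {G : Type u} [Group G] (S : Full σ G)

/-- an element that normalises the torus -/
theorem dih_T {n s : G} (hn : S.IsDihE n) (hs : s ∈ S.T) : n * s * n⁻¹ ∈ S.T := by
  have key : ∀ f : ZMod (2 * 8) → ZMod (2 * 8), Function.Bijective f → Maps S.R.X n f → n * s * n⁻¹ ∈ S.T := by
    intro f hf h k x
    obtain ⟨j, rfl⟩ := hf.2 k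
    have h1 : n * (n⁻¹ * x * n) * n⁻¹ = x := by group
    have h2 := h j (n⁻¹ * x * n)
    rw [h1] at h2
    have h3 := hs j (n⁻¹ * x * n)
    have h4 := h j (s * (n⁻¹ * x * n) * s⁻¹)
    have e : n * (s * (n⁻¹ * x * n) * s⁻¹) * n⁻¹ = n * s * n⁻¹ * x * (n * s * n⁻¹)⁻¹ := by group
    rw [e] at h4
    show n * s * n⁻¹ * x * (n * s * n⁻¹)⁻¹ ∈ S.R.X (f j) ↔ x ∈ S.R.X (f j)
    rw [h2, ← h3]
    exact h4
  obtain ⟨c, hc | hc⟩ := hn
  · refine key _ ?_ hc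
    exact ⟨fun a b h => add_left_cancel h, fun b => ⟨b - ((2 * c : ℤ) : ZMod (2 * 8)), by ring⟩⟩
  · refine key _ ?_ hc
    exact ⟨fun a b h => sub_right_injective h, fun b => ⟨((2 * c : ℤ) : ZMod (2 * 8)) - b, by ring⟩⟩

theorem dih_T_mul {n t : G} (hn : S.IsDihE n) (ht : t ∈ S.T) : S.IsDihE (t * n) := by
  obtain ⟨c, hc | hc⟩ := hn
  · exact ⟨c, Or.inl ((ht.mul hc).congr fun k => rfl)⟩
  · exact ⟨c, Or.inr ((ht.mul hc).congr fun k => rfl)⟩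

/-- `C_U(y)` lies in one root group -/
theorem fix_U {y : G} (hy : y ∈ S.T) (hy1 : y ≠ 1) : ∃ k : ℤ, 1 ≤ k ∧ k ≤ 8 ∧
    ∀ x ∈ J S.XZ 1 8, y * x * y⁻¹ = x → x ∈ S.XZ k := by
  by_cases h : ∃ k : ℤ, 1 ≤ k ∧ k ≤ 8 ∧ ∃ x ∈ S.XZ k, x ≠ 1 ∧ y * x * y⁻¹ = x
  · obtain ⟨k, h1, h2, x, hx, hx1, hyx⟩ := h
    have hk : y ∈ S.Tk k := by
      refine ⟨hy, Subgroup.mem_centralizer_iff.2 fun z hz => ?_⟩
      obtain ⟨c, d, rfl⟩ := S.mem_T.1 hy
      obtain ⟨a, ha | ha⟩ := Int.even_or_odd' k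
      · rw [ha] at hx hz
        have hch : chE σ (a : ZMod 8) c d = 1 := by
          by_contra hne
          exact hx1 (fixX_even S hne hx hyx)
        obtain ⟨p, u, rfl⟩ := (S.mem_XZ_even a z).1 hz
        symm
        rw [← mul_inv_eq_iff_eq_mul, S.h_e, hch, Units.val_one, map_one, one_mul, one_mul, one_mul]
      · rw [ha] at hx hz
        have hch : chO σ (a : ZMod 8) c d = 1 := by
          by_contra hne
          exact hx1 (fixX_odd S hne hx hyx)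
        obtain ⟨t, rfl⟩ := (S.mem_XZ_odd a z).1 hz
        symm
        rw [← mul_inv_eq_iff_eq_mul, S.h_o, hch, Units.val_one, one_mul]
    exact ⟨k, h1, h2, fun x hx hyx => S.fix_J hk hy1 (by omega) (by omega) (by norm_num) hx hyx⟩
  · push Not at h
    refine ⟨1, le_rfl, by norm_num, fun x hx hyx => ?_⟩
    rw [S.fix_J_one hy (a := 1) (b := 8) (by norm_num) (fun j h1 h2 x hx hyx => by
      by_contra hne
      exact h j h1 h2 x hx hne hyx) hx hyx]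
    exact one_mem _

variable [Finite F] [Finite G]

theorem card_X_le (k : ℤ) : Nat.card (S.XZ k) ≤ Nat.card F ^ 2 := by
  have hq : 0 < Nat.card F := Nat.card_pos
  obtain ⟨a, ha | ha⟩ := Int.even_or_odd' k
  · rw [ha, card_even]
  · rw [ha, card_odd, pow_two]
    exact Nat.le_mul_of_pos_left _ hq

/-- the Bruhat form of an element centralising `y ∈ T` -/
theorem cent_T_form (hR : S.R.p = 2) {y : G} (hy : y ∈ S.T) {r : ℕ} (hr : r.Prime) (hr2 : r ≠ 2) (hyr : y ^ r = 1)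
    {g : G} (hg : g * y = y * g) : ∃ x ∈ J S.XZ 1 8, ∃ n, S.IsDihE n ∧ ∃ x' ∈ J S.XZ 1 8, g = x * n * x' ∧
      y * x * y⁻¹ = x ∧ y * x' * y⁻¹ = x' := by
  obtain ⟨b, hb, t, ht, w, hw, b', hb', e⟩ := S.bruhatE g
  have hn : S.IsDihE (t * w) := dih_T_mul S hw ht
  obtain ⟨n, hne⟩ : ∃ n, n = t * w := ⟨_, rfl⟩
  rw [← hne] at hn
  have eg : g = b * n * b' := by rw [e, hne]; group
  have hyU : ∀ x ∈ J S.XZ 1 8, y * x * y⁻¹ ∈ J S.XZ 1 8 := fun x hx => S.T_conj_J hy hx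
  have hu1 : b⁻¹ * y * b * y⁻¹ ∈ J S.XZ 1 8 := by
    have : b⁻¹ * y * b * y⁻¹ = b⁻¹ * (y * b * y⁻¹) := by group
    rw [this]; exact mul_mem (inv_mem hb) (hyU b hb)
  have hu2 : b' * y * b'⁻¹ * y⁻¹ ∈ J S.XZ 1 8 := by
    have : b' * y * b'⁻¹ * y⁻¹ = b' * (y * b'⁻¹ * y⁻¹) := by group
    rw [this]; exact mul_mem hb' (hyU _ (inv_mem hb'))
  have h1 : n * (b' * y * b'⁻¹) * n⁻¹ = b⁻¹ * y * b := by
    have e1 : b * n * b' * y = y * (b * n * b') := by rw [← eg]; exact hg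
    calc n * (b' * y * b'⁻¹) * n⁻¹ = b⁻¹ * (b * n * b' * y) * (b'⁻¹ * n⁻¹) := by group
      _ = b⁻¹ * (y * (b * n * b')) * (b'⁻¹ * n⁻¹) := by rw [e1]
      _ = b⁻¹ * y * b := by group
  have hs : y * (n * y * n⁻¹)⁻¹ ∈ S.T := mul_mem hy (inv_mem (dih_T S hn hy))
  -- `v = u1 s`
  have hv : n * (b' * y * b'⁻¹ * y⁻¹) * n⁻¹ = (b⁻¹ * y * b * y⁻¹) * (y * (n * y * n⁻¹)⁻¹) := by
    calc n * (b' * y * b'⁻¹ * y⁻¹) * n⁻¹ = (n * (b' * y * b'⁻¹) * n⁻¹) * (n * y * n⁻¹)⁻¹ := by group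
      _ = (b⁻¹ * y * b) * (n * y * n⁻¹)⁻¹ := by rw [h1]
      _ = _ := by group
  have hs1 : y * (n * y * n⁻¹)⁻¹ = 1 := by
    obtain ⟨k, hk⟩ := two_J S hR (a := 1) (b := 8) (by norm_num) ⟨_, hu2⟩
    have hk' : (b' * y * b'⁻¹ * y⁻¹) ^ (2 ^ k) = 1 := congrArg Subtype.val hk
    have hv1 : (n * (b' * y * b'⁻¹ * y⁻¹) * n⁻¹) ^ (2 ^ k) = 1 := by
      rw [conj_pow, hk', mul_one, mul_inv_cancel]
    rw [hv] at hv1
    -- powers of `u s`
    have key : ∀ (u s : G), u ∈ J S.XZ 1 8 → s ∈ S.T → ∀ m : ℕ, ∃ u' ∈ J S.XZ 1 8, (u * s) ^ m = u' * s ^ m := by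
      intro u s hu hs m
      induction m with
      | zero => exact ⟨1, one_mem _, by simp⟩
      | succ m ih =>
        obtain ⟨u', hu', h⟩ := ih
        refine ⟨u' * (s ^ m * u * (s ^ m)⁻¹), mul_mem hu' (S.T_conj_J (pow_mem hs m) hu), ?_⟩
        rw [pow_succ, h, pow_succ]; group
    obtain ⟨u', hu', hp⟩ := key _ _ hu1 hs (2 ^ k)
    rw [hp] at hv1
    have h3 : (y * (n * y * n⁻¹)⁻¹) ^ (2 ^ k) = 1 := by
      refine S.U_inf_T (pow_mem hs _) ?_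
      have : (y * (n * y * n⁻¹)⁻¹) ^ (2 ^ k) = u'⁻¹ := (inv_eq_of_mul_eq_one_right hv1).symm
      rw [this]; exact inv_mem hu'
    obtain ⟨c, d, hcd⟩ := S.mem_T.1 hs
    rw [← hcd] at h3
    obtain ⟨rfl, rfl⟩ := SylU.torus_two S h3
    rw [← hcd, S.h_one]
  have hny : n * y * n⁻¹ = y := (mul_inv_eq_one.1 hs1).symm
  have hny' : n⁻¹ * y * n = y := by
    calc n⁻¹ * y * n = n⁻¹ * (n * y * n⁻¹) * n := by rw [hny]
      _ = y := by group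
  rw [hs1, mul_one] at hv
  -- the group `P`
  let P : Subgroup G := J S.XZ 1 8 ⊓ (J S.XZ 1 8).map (MulAut.conj n).toMonoidHom
  have hu1P : b⁻¹ * y * b * y⁻¹ ∈ P := ⟨hu1, ⟨_, hu2, hv⟩⟩
  have hyP : ∀ x ∈ P, y * x * y⁻¹ ∈ P := by
    rintro x ⟨hx, z, hz, rfl⟩
    refine ⟨hyU _ hx, y * z * y⁻¹, hyU _ hz, ?_⟩
    show n * (y * z * y⁻¹) * n⁻¹ = y * (n * z * n⁻¹) * y⁻¹
    calc n * (y * z * y⁻¹) * n⁻¹ = n * ((n⁻¹ * y * n) * z * (n⁻¹ * y * n)⁻¹) * n⁻¹ := by rw [hny']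
      _ = y * (n * z * n⁻¹) * y⁻¹ := by group
  have hPr : ¬ r ∣ Nat.card P := by
    intro hd
    have hp : IsPGroup 2 P := (two_J S hR (a := 1) (b := 8) (by norm_num)).to_le inf_le_left
    obtain ⟨m, hm⟩ := (IsPGroup.iff_card (p := 2)).1 hp
    rw [hm] at hd
    exact hr2 ((Nat.prime_dvd_prime_iff_eq hr Nat.prime_two).1 (hr.dvd_of_dvd_pow hd))
  obtain ⟨p, hp, hpe⟩ := exists_conj_of_order hr hPr hu1P hyP hyr (by
    have : b⁻¹ * y * b * y⁻¹ * y = b⁻¹ * y * b⁻¹⁻¹ := by group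
    rw [this, conj_pow, hyr, mul_one, mul_inv_cancel])
  obtain ⟨hpU, z, hz, hzp⟩ := hp
  have hzp' : n * z * n⁻¹ = p := hzp
  have hx : y * (b * p) * y⁻¹ = b * p := by
    have e1 : b⁻¹ * y * b = p * y * p⁻¹ := by rw [← hpe]; group
    have e2 : b⁻¹ * (y * (b * p)) = b⁻¹ * (b * p * y) := by
      calc b⁻¹ * (y * (b * p)) = (b⁻¹ * y * b) * p := by group
        _ = b⁻¹ * (b * p * y) := by rw [e1]; group
    rw [mul_left_cancel e2]; group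
  refine ⟨b * p, mul_mem hb hpU, n, hn, z⁻¹ * b', mul_mem (inv_mem hz) hb', ?_, hx, ?_⟩
  · rw [eg, ← hzp']; group
  · have e3 : z⁻¹ * b' = n⁻¹ * (b * p)⁻¹ * g := by rw [eg, ← hzp']; group
    have e4 : y * g * y⁻¹ = g := by rw [← hg, mul_inv_cancel_right]
    rw [e3]
    calc y * (n⁻¹ * (b * p)⁻¹ * g) * y⁻¹ = (n⁻¹ * (n * y * n⁻¹) * n) * n⁻¹ * y⁻¹ * (y * (b * p) * y⁻¹)⁻¹ * (y * g * y⁻¹) := by
          group
      _ = n⁻¹ * (b * p)⁻¹ * g := by rw [hx, e4, hny]; group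

/-- the patterns -/
def patt (p : ZMod 8 × Bool) (k : ZMod (2 * 8)) : ZMod (2 * 8) :=
  if p.2 then ((2 * p.1.val : ℕ) : ZMod (2 * 8)) + k else ((2 * p.1.val : ℕ) : ZMod (2 * 8)) - k

theorem cast_two (c : ℤ) : ((2 * c : ℤ) : ZMod (2 * 8)) = ((2 * ((c : ZMod 8)).val : ℕ) : ZMod (2 * 8)) := by
  have h1 : ((2 * ((c : ZMod 8)).val : ℕ) : ZMod (2 * 8)) = ((2 * (((c : ZMod 8)).val : ℤ) : ℤ) : ZMod (2 * 8)) := by
    push_cast; rfl
  rw [h1, ZMod.intCast_eq_intCast_iff]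
  have h2 : (((c : ZMod 8)).val : ℤ) = c % 8 := by
    rw [ZMod.val_intCast]; rfl
  rw [h2]
  show (2 * c) % ((2 * 8 : ℕ) : ℤ) = (2 * (c % 8)) % ((2 * 8 : ℕ) : ℤ)
  push_cast
  omega

theorem exists_patt {n : G} (hn : S.IsDihE n) : ∃ p, Maps S.R.X n (patt p) := by
  obtain ⟨c, hc | hc⟩ := hn
  · refine ⟨((c : ZMod 8), true), hc.congr fun k => ?_⟩
    show ((2 * c : ℤ) : ZMod (2 * 8)) + k = _
    unfold patt
    rw [if_pos rfl, cast_two]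
  · refine ⟨((c : ZMod 8), false), hc.congr fun k => ?_⟩
    show ((2 * c : ℤ) : ZMod (2 * 8)) - k = _
    unfold patt
    rw [if_neg (by simp), cast_two]

/-- **the centraliser of an element of the torus** -/
theorem card_cent_T_le (hR : S.R.p = 2) {y : G} (hy : y ∈ S.T) (hy1 : y ≠ 1) {r : ℕ} (hr : r.Prime) (hr2 : r ≠ 2)
    (hyr : y ^ r = 1) : Nat.card (Subgroup.centralizer ({y} : Set G)) ≤ 16 * Nat.card F ^ 4 * (Nat.card F - 1) ^ 2 := by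
  classical
  obtain ⟨k, hk1, hk8, hfix⟩ := fix_U S hy hy1
  -- representatives
  let rep : ZMod 8 × Bool → G := fun p => if h : ∃ n, Maps S.R.X n (patt p) then h.choose else 1
  have hrep : ∀ n, S.IsDihE n → ∃ p, ∃ t ∈ S.T, n = rep p * t := by
    intro n hn
    obtain ⟨p, hp⟩ := exists_patt S hn
    have h : ∃ n, Maps S.R.X n (patt p) := ⟨n, hp⟩
    have e : rep p = h.choose := dif_pos h
    have h0 : Maps S.R.X (rep p) (patt p) := by rw [e]; exact h.choose_spec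
    refine ⟨p, (rep p)⁻¹ * n, ?_, by group⟩
    intro j x
    have h1 := hp j x
    have h2 := h0 j ((rep p)⁻¹ * n * x * ((rep p)⁻¹ * n)⁻¹)
    have e2 : rep p * ((rep p)⁻¹ * n * x * ((rep p)⁻¹ * n)⁻¹) * (rep p)⁻¹ = n * x * n⁻¹ := by group
    rw [e2] at h2
    show _ ∈ S.R.X j ↔ _
    rw [← h2, h1]
  have key : ∀ g : Subgroup.centralizer ({y} : Set G), ∃ w : S.XZ k × (ZMod 8 × Bool) × S.T × S.XZ k,
      (g : G) = w.1 * rep w.2.1 * w.2.2.1 * w.2.2.2 := by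
    rintro ⟨g, hg⟩
    rw [Subgroup.mem_centralizer_singleton_iff] at hg
    obtain ⟨x, hx, n, hn, x', hx', e, h1, h2⟩ := cent_T_form S hR hy hr hr2 hyr hg
    obtain ⟨p, t, ht, rfl⟩ := hrep n hn
    exact ⟨(⟨x, hfix x hx h1⟩, p, ⟨t, ht⟩, ⟨x', hfix x' hx' h2⟩), by
      show g = x * rep p * t * x'
      rw [e]; simp only [mul_assoc]⟩
  choose f hf using key
  have h1 := Nat.card_le_card_of_injective f (by
    intro a b hab
    apply Subtype.ext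
    rw [hf a, hf b, hab])
  simp only [Nat.card_prod] at h1
  rw [card_T] at h1
  have h8 : Nat.card (ZMod 8) = 8 := Nat.card_zmod 8
  have hb : Nat.card Bool = 2 := by rw [Nat.card_eq_fintype_card]; rfl
  rw [h8, hb] at h1
  calc _ ≤ _ := h1
    _ ≤ Nat.card F ^ 2 * (8 * 2 * ((Nat.card F - 1) ^ 2 * Nat.card F ^ 2)) :=
      Nat.mul_le_mul (card_X_le S k) (Nat.mul_le_mul_left _ (Nat.mul_le_mul_left _ (card_X_le S k)))
    _ = _ := by ring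

end Cfsg.Agent.H991.TwFAb
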